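import Cfsg.Agent.RootInvolutions.Disconnected.Twins

/-!
With a product of two commuting members fixing two components, the members of one component commute,
provided this holds inside proper subgroups meeting two components.
-/

set_option autoImplicit false

namespace CfsgLib.RootPoints

open Cfsg CfsgLib.RootInv CfsgLib.RootInv99

variable {G : Type*} [Group G] {D : Set G}

/-- Members of a proper subgroup with a common neighbour commute, if a second component and a line
through one of them are present. -/
def ProperSmooth (D : Set G) : Prop :=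
  ∀ K : Subgroup G, K ≠ ⊤ → ∀ g ∈ D, ∀ q ∈ D, ∀ l : G, ∀ e ∈ D, ∀ x ∈ D, g ∈ K → q ∈ K → l ∈ K →
    e ∈ K → x ∈ K → Commute e g → Commute e q → ¬ CReach D e x → Line D g l → Commute g q

/-- A twin product fixing a second component, mapping each member of its own component to a twin. -/
structure Star (hD : IsRootInvolutionSet D) (x y a : G) : Prop where
  bad : BadFix hD x y a
  twins : Tw D x y
  trivial : ∀ g : G, CReach D x g → Tw D g (x * y * g * (x * y))

variable {hD : IsRootInvolutionSet D} [Finite G] (hone : OneClass D) (hl : ∃ b c, Line D b c)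
  {x y a e f g h : G}

include hone hl

theorem BadFix.star (hu : BadFix hD x y a) (hg : CReach D a g) :
    Star hD g (x * y * g * (x * y)) x := by
  refine ⟨hu.pair hg, hu.twin hone hl hg, fun q hq => ?_⟩
  have hgD := mem_of_creach hg hu.memA
  have haq : CReach D a q := hg.trans hq
  have hgq : CReach D a (g * q * g⁻¹) := by
    have h1 := (mem_pointStab hD).mp (self_mem_pointStab hD (a := g))
    exact hg.trans (h1.trans (creach_conj hD hq g))
  have t1 := hu.twin hone hl haq
  set q1 := x * y * q * (x * y) with hq1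
  have t2 : Tw D (g * q * g⁻¹) (g * q1 * g⁻¹) := t1.conj hD g
  have hgq1 : CReach D a (g * q1 * g⁻¹) := by
    have h1 := (mem_pointStab hD).mp (self_mem_pointStab hD (a := g))
    exact hg.trans (h1.trans (creach_conj hD ((creach_symm hg).trans (hu.creach_conj_right haq)) g))
  have t3 := hu.twin hone hl hgq1
  have t4 := (t2.trans t3).conj hD g
  rw [show g * (g * q * g⁻¹) * g⁻¹ = g * g * q * (g * g)⁻¹ by group, RootInv.mul_self hD hgD,
    one_mul, inv_one, mul_one] at t4
  convert t4 using 1
  have hc := (hu.commute_conj hg).eq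
  rw [hq1, inv_self hD hgD]
  calc g * (x * y * g * (x * y)) * q * (g * (x * y * g * (x * y)))
      = g * (x * y * g * (x * y)) * q * (x * y * g * (x * y) * g) := by rw [hc]
    _ = g * (x * y * (g * (x * y * q * (x * y)) * g) * (x * y)) * g := by group

/-- The first pair of twin products. -/
theorem BadFix.exists_stars (hu : BadFix hD x y a) :
    ∃ f z : G, Star hD a f x ∧ Star hD x z a := by
  have h1 := hu.star hone hl (Relation.ReflTransGen.refl (a := a))
  exact ⟨_, _, h1, h1.bad.star hone hl (Relation.ReflTransGen.refl (a := x))⟩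

variable (hfaith : pointKer hD = ⊥) (hsmooth : ProperSmooth D) (hrough : ∃ g q : G, g ∈ D ∧ q ∈ D ∧
  CReach D g q ∧ ¬ Commute g q)

include hD hrough

/-- Every member is joined to a noncommuting pair with a line. -/
theorem exists_rough (he : e ∈ D) : ∃ g q l : G, g ∈ D ∧ q ∈ D ∧ Line D g l ∧ Commute e g ∧
    Commute e q ∧ Commute e l ∧ ¬ Commute g q := by
  suffices h : ∃ e' ∈ D, ∃ g q l : G, g ∈ D ∧ q ∈ D ∧ Line D g l ∧ Commute e' g ∧
      Commute e' q ∧ Commute e' l ∧ ¬ Commute g q by
    obtain ⟨e', he', g, q, l, hg, hq, hgl, h1, h2, h3, h4⟩ := h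
    obtain ⟨t, rfl⟩ := hone e' he' e he
    refine ⟨t * g * t⁻¹, t * q * t⁻¹, t * l * t⁻¹, hD.conj_mem g hg t, hD.conj_mem q hq t,
      ⟨hD.conj_mem g hg t, hD.conj_mem l hgl.2.1 t, ?_⟩, (Commute.conj_iff t).mpr h1,
      (Commute.conj_iff t).mpr h2, (Commute.conj_iff t).mpr h3,
      fun h => h4 ((Commute.conj_iff t).mp h)⟩
    rw [show t * g * t⁻¹ * (t * l * t⁻¹) = t * (g * l) * t⁻¹ by group]
    exact hD.conj_mem _ hgl.2.2 t
  by_cases hfour : ∃ g ∈ D, ∃ q ∈ D, ¬ Commute g q ∧ (g * q) ^ 4 = 1
  · obtain ⟨g, hg, q, hq, hc, h4⟩ := hfour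
    refine ⟨(g * q) ^ 2, sq_mem hD hg hq hc h4, g, q, (g * q) ^ 2, hg, hq,
      ⟨hg, sq_mem hD hg hq hc h4, ?_⟩, commute_sq_left hD hg hq h4, commute_sq_right hD hg hq h4,
      Commute.refl _, hc⟩
    rw [pow_two, show g * (g * q * (g * q)) = g * g * (q * g * q) by group,
      RootInv.mul_self hD hg, one_mul]
    exact conj_self_mem hD hq hg
  push Not at hfour
  by_contra hno
  obtain ⟨g, q, hg, -, hgq, hc⟩ := hrough
  apply hc
  clear hc
  induction hgq with
  | refl => exact Commute.refl g
  | @tail s t _ hst ih =>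
    by_contra hc
    obtain ⟨l, hl'⟩ := hl.elim fun b hb => hb.elim fun c hbc => exists_line hD hone hbc hg
    refine hno ⟨s, hst.1, g, t, l, hg, hst.2.1, hl', ih.symm, hst.2.2.2, ?_, hc⟩
    by_contra hsl
    exact hfour s hst.1 l hl'.2.1 hsl (hl'.pow_four_of_commute hD hst.1 ih.symm) 

include hfaith hsmooth

/-- An element centralising the neighbours of a member and a member elsewhere is trivial. -/
theorem eq_one_of_commute {w : G} (he : e ∈ D) (hx : x ∈ D) (hne : ¬ CReach D e x)
    (h1 : ∀ t ∈ D, Commute t e → Commute w t) (h2 : Commute w x) : w = 1 := by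
  by_contra hw
  obtain ⟨g, q, l, hg, hq, hgl, heg, heq, hel, hc⟩ := exists_rough (hD := hD) hone hl hrough he
  have hK : Subgroup.centralizer ({w} : Set G) ≠ ⊤ := by
    intro htop
    have hcen : ∀ t : G, Commute t w := fun t =>
      Subgroup.mem_centralizer_singleton_iff.mp (htop ▸ Subgroup.mem_top t)
    apply hw
    rw [← Subgroup.mem_bot, ← hfaith, mem_pointKer hD]
    exact fun b _ => mem_pointStab_of_commute hD (hcen b).symm
  have hm : ∀ t : G, Commute w t → t ∈ Subgroup.centralizer ({w} : Set G) := fun t ht =>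
    Subgroup.mem_centralizer_singleton_iff.mpr ht.symm.eq
  exact hc (hsmooth _ hK g hg q hq l e he x hx (hm _ (h1 g hg heg.symm)) (hm _ (h1 q hq heq.symm))
    (hm _ (h1 l hgl.2.1 hel.symm)) (hm _ (h1 e he (Commute.refl e))) (hm _ h2) heg heq hne hgl)

/-- Twin products fixing each other's components commute. -/
theorem commute_cross (hv : BadFix hD e f x) (htv : Tw D e f) (hu : BadFix hD x y e)
    (htu : Tw D x y) : Commute (e * f) (x * y) := by
  have key : ∀ {e f x y : G}, BadFix hD e f x → Tw D e f → BadFix hD x y e →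
      ∀ t ∈ D, Commute t e → Commute (e * f * (x * y * (e * f) * (x * y))) t := by
    intro e f x y hv htv hu t ht hte
    have htf : Commute t f := (htv t ht).mp hte
    have hef : CReach D e f := creach_of_commute hv.memX hv.memY hv.comm
    have h1 := (hu.twin hone hl Relation.ReflTransGen.refl t ht).mp hte
    have h2 := (hu.twin hone hl hef t ht).mp htf
    refine Commute.mul_left (Commute.mul_left hte.symm htf.symm) ?_
    rw [show x * y * (e * f) * (x * y) = (x * y * e * (x * y)) * (x * y * f * (x * y)) by
      rw [show x * y * e * (x * y) * (x * y * f * (x * y)) =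
        x * y * e * (x * y * (x * y)) * f * (x * y) by group, hu.mul_self, mul_one]; group]
    exact Commute.mul_left h1.symm h2.symm
  have h1 := key hv htv hu
  have h2 := key hu htu hv x hu.memX (Commute.refl x)
  have e1 : (e * f * (x * y * (e * f) * (x * y)))⁻¹ = x * y * (e * f * (x * y) * (e * f)) := by
    refine inv_eq_of_mul_eq_one_right ?_
    calc e * f * (x * y * (e * f) * (x * y)) * (x * y * (e * f * (x * y) * (e * f)))
        = e * f * (x * y) * (e * f * ((x * y) * (x * y)) * (e * f)) * (x * y) * (e * f) := by group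
      _ = e * f * ((x * y) * (x * y)) * (e * f) := by
        rw [hu.mul_self, mul_one, hv.mul_self, mul_one, mul_assoc (e * f) (x * y) (x * y),
          hu.mul_self, mul_one, hv.mul_self]
      _ = 1 := by rw [hu.mul_self, mul_one, hv.mul_self]
  rw [← e1] at h2
  have hw := eq_one_of_commute hone hl hfaith hsmooth hrough hv.memX hu.memX hv.apart h1
    (by simpa using h2.inv_left)
  have h3 : e * f * (x * y) * (e * f * (x * y)) = 1 := by
    rw [← hw]; group
  have h4 := inv_eq_of_mul_eq_one_right h3
  rw [mul_inv_rev, hu.inv_eq, hv.inv_eq] at h4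
  exact h4.symm

/-- Twin products of one component fixing one second component commute. -/
theorem commute_same {e' f' : G} (hv : Star hD e f x) (hv' : Star hD e' f' x)
    (hee : CReach D e e') : Commute (e * f) (e' * f') := by
  set v := e * f with hvdef
  set v' := e' * f' with hv'def
  have hx0 : CReach D x x := Relation.ReflTransGen.refl
  have hs := hv.bad.star hone hl hx0
  have hs' := hv'.bad.star hone hl hx0
  set φ := x * (v * x * v) with hφ
  set φ' := x * (v' * x * v') with hφ'
  have hφv' : Commute v' φ := commute_cross hone hl hfaith hsmooth hrough hv'.bad hv'.twins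
    (hs.bad.congr hee) hs.twins
  have hφ'v : Commute v φ' := commute_cross hone hl hfaith hsmooth hrough hv.bad hv.twins
    (hs'.bad.congr (creach_symm hee)) hs'.twins
  have hxD := hv.bad.memA
  have hxx := RootInv.mul_self hD hxD
  have e1 : v * x * v = x * φ := by
    rw [hφ, show x * (x * (v * x * v)) = x * x * (v * x * v) from (mul_assoc x x _).symm, hxx, one_mul]
  have e2 : v' * x * v' = x * φ' := by
    rw [hφ', show x * (x * (v' * x * v')) = x * x * (v' * x * v') from (mul_assoc x x _).symm, hxx,
      one_mul]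
  have hφφ : Commute φ φ' := by
    have c1 : Commute x (v * x * v) := hs.bad.comm
    have c2 : Commute x (v' * x * v') := hs'.bad.comm
    have c3 : Commute (v * x * v) (v' * x * v') :=
      ((hs'.twins _ hs.bad.memY).mp c1.symm)
    exact Commute.mul_left (Commute.mul_right (Commute.refl x) c2)
      (Commute.mul_right c1.symm c3)
  have hwx : Commute (v * v' * (v * v')) x := by
    have h1 : v' * (v * x * v) * v' = v * (v' * x * v') * v := by
      rw [e1, e2]
      calc v' * (x * φ) * v' = v' * x * (φ * v') := by group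
        _ = v' * x * v' * φ := by rw [← hφv'.eq]; group
        _ = x * φ * φ' := by rw [e2, mul_assoc, ← hφφ.eq]; group
        _ = v * x * v * φ' := by rw [e1]
        _ = v * x * (φ' * v) := by rw [← hφ'v.eq]; group
        _ = _ := by group
    have hvv := hv.bad.mul_self
    have hv'v' := hv'.bad.mul_self
    refine StronglyEmbedded.commute_iff_conj_eq.mpr ?_
    rw [mul_inv_rev, mul_inv_rev, hv.bad.inv_eq, hv'.bad.inv_eq]
    calc v * v' * (v * v') * x * (v' * v * (v' * v))
        = v * v' * (v * (v' * x * v') * v) * (v' * v) := by group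
      _ = v * v' * (v' * (v * x * v) * v') * (v' * v) := by rw [h1]
      _ = v * (v' * v') * (v * x * v) * (v' * v') * v := by group
      _ = v * v * x * (v * v) := by rw [hv'v']; simp only [mul_one, one_mul]; group
      _ = x := by rw [hvv, mul_one, one_mul]
  have hw := eq_one_of_commute hone hl hfaith hsmooth hrough hv.bad.memX hxD hv.bad.apart
    (w := v * v' * (v * v')) ?_ hwx
  · have h4 := inv_eq_of_mul_eq_one_right hw
    rw [mul_inv_rev, hv'.bad.inv_eq, hv.bad.inv_eq] at h4
    exact h4.symm
  intro t ht hte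
  have htf : Commute t f := (hv.twins t ht).mp hte
  have hef : CReach D e f := creach_of_commute hv.bad.memX hv.bad.memY hv.bad.comm
  have h1 := (hv'.trivial e (creach_symm hee) t ht).mp hte
  have h2 := (hv'.trivial f ((creach_symm hee).trans hef) t ht).mp htf
  rw [show v * v' * (v * v') = e * f * (v' * (e * f) * v') by rw [hvdef]; group]
  refine Commute.mul_left (Commute.mul_left hte.symm htf.symm) ?_
  rw [show v' * (e * f) * v' = v' * e * v' * (v' * f * v') by
    rw [show v' * e * v' * (v' * f * v') = v' * e * (v' * v') * f * v' by group,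
      hv'.bad.mul_self, mul_one]; group]
  exact Commute.mul_left h1.symm h2.symm

/-- The twin products of a component fixing a second one are permuted by the component. -/
theorem Star.conj {z : G} (hv : Star hD e f x) (hu : Star hD x z e) (hh : CReach D e h) :
    Star hD (h * e * h) (h * f * h) x := by
  have hhD := mem_of_creach hh hv.bad.memX
  set v := e * f with hvdef
  set φ := x * z with hφdef
  have hφ2 := hu.bad.mul_self
  have hvv := hv.bad.mul_self
  have hhv := hu.bad.star hone hl hh
  set h' := φ * h * φ with hh'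
  have hc1 : Commute (h * h') v := commute_same hone hl hfaith hsmooth hrough hhv hv (creach_symm hh)
  have hc2 : Commute v φ := commute_cross hone hl hfaith hsmooth hrough hv.bad hv.twins hu.bad hu.twins
  have hc3 : Commute (h * h') h := (Commute.refl h).mul_left hhv.bad.comm.symm
  have hτ : Commute (h * (v * h * v)) φ := by
    refine Commute.symm (StronglyEmbedded.commute_iff_conj_eq.mpr ?_)
    rw [hu.bad.inv_eq]
    have e1 : φ * (h * (v * h * v)) * φ = h' * v * h' * v := by
      calc φ * (h * (v * h * v)) * φ = φ * h * v * h * (v * φ) := by group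
        _ = φ * h * (φ * φ) * v * (φ * φ) * h * φ * v := by rw [hφ2, hc2.eq]; group
        _ = φ * h * φ * (φ * v * φ) * (φ * h * φ) * v := by group
        _ = _ := by rw [← hc2.eq, mul_assoc v φ φ, hφ2, mul_one]
    have hhh := RootInv.mul_self hD hhD
    have hww : h * h' * (h * h') = 1 := hhv.bad.mul_self
    have e2 : h' = h * (h * h') := by rw [← mul_assoc, hhh, one_mul]
    rw [e1]
    calc h' * v * h' * v = h * (h * h' * v) * (h * (h * h')) * v := by
          conv_lhs => rw [e2]
          group
      _ = h * v * (h * h' * h) * (h * h') * v := by rw [hc1.eq]; group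
      _ = h * v * h * (h * h' * (h * h')) * v := by rw [hc3.eq]; group
      _ = h * (v * h * v) := by rw [hww, mul_one]; group
  have hfix : h * v * h ∈ pointStab hD x := by
    have h1 := mul_mem (mem_pointStab_of_commute_mul hD hu.bad.memX hu.bad.memY hu.bad.comm hu.bad.ne
      hτ) hv.bad.fixes
    rwa [show h * (v * h * v) * (e * f) = h * v * h * (v * v) by rw [hvdef]; group, hvv, mul_one] at h1
  have hhi := inv_self hD hhD
  have htw := hv.twins.conj hD h
  rw [hhi] at htw
  have hprod : h * e * h * (h * f * h) = h * v * h := by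
    rw [show h * e * h * (h * f * h) = h * e * (h * h) * f * h by group, RootInv.mul_self hD hhD,
      mul_one, hvdef]
    group
  have hre : CReach D e (h * e * h) := by
    have h2 := creach_conj hD hh h
    rw [hhi, RootInv.mul_self hD hhD, one_mul] at h2
    exact hh.trans (creach_symm h2)
  refine ⟨⟨conj_self_mem hD hhD hv.bad.memX, conj_self_mem hD hhD hv.bad.memY, ?_, ?_, hv.bad.memA,
    fun h' => hv.bad.apart (hre.trans h'), hprod ▸ hfix⟩, htw, fun q hq => ?_⟩
  · have := (Commute.conj_iff h).mpr hv.bad.comm
    rwa [hhi] at this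
  · exact fun h' => hv.bad.ne (mul_left_cancel (mul_right_cancel h'))
  · rw [hprod]
    have heq : CReach D e (h * q * h) := by
      have h1 := creach_conj hD (hre.trans hq) h
      rw [hhi] at h1
      exact hre.trans h1
    have t1 := (hv.trivial _ heq).conj hD h
    rw [hhi] at t1
    convert t1 using 1
    · rw [show h * (h * q * h) * h = h * h * q * (h * h) by group, RootInv.mul_self hD hhD, mul_one,
        one_mul]
    · rw [hvdef]; group

omit hrough in
/-- The members of one component commute. -/
theorem commute_of_creach (hu : BadFix hD x y a) (hg : g ∈ D) (hgh : CReach D g h) :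
    Commute g h := by
  by_contra hc
  have hrough : ∃ g q : G, g ∈ D ∧ q ∈ D ∧ CReach D g q ∧ ¬ Commute g q :=
    ⟨g, h, hg, mem_of_creach hgh hg, hgh, hc⟩
  obtain ⟨f, z, hsa, hsx⟩ := hu.exists_stars hone hl
  let U : Set G := {w | ∃ e f, Star hD e f x ∧ CReach D a e ∧ w = e * f} ∪
    {w | ∃ e f, Star hD e f a ∧ CReach D x e ∧ w = e * f}
  set N := Subgroup.closure U with hN
  have hUa : ∀ {p q e f : G}, Star hD e f p → CReach D q e →
      e * f ∈ pointStab hD p ⊓ pointStab hD q := fun {p q e f} hs hr =>
    ⟨hs.bad.fixes, pointStab_congr hD hr ▸ hs.bad.fixes_home⟩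
  have hNle : N ≤ pointStab hD a ⊓ pointStab hD x := by
    rw [hN, Subgroup.closure_le]
    rintro w (⟨e, f, hs, hr, rfl⟩ | ⟨e, f, hs, hr, rfl⟩)
    · exact ⟨(hUa hs hr).2, (hUa hs hr).1⟩
    · exact hUa hs hr
  -- each member of the two components normalises `N`
  have hnorm : ∀ {p q e₀ f₀ z₀ k : G}, Star hD e₀ f₀ q → Star hD q z₀ e₀ → CReach D p e₀ →
      CReach D p k → (∀ e f, Star hD e f q → CReach D p e → e * f ∈ N) →
      (∀ e f, Star hD e f p → CReach D q e → e * f ∈ N) →
      ∀ w, ((∃ e f, Star hD e f q ∧ CReach D p e ∧ w = e * f) ∨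
        (∃ e f, Star hD e f p ∧ CReach D q e ∧ w = e * f)) → k * w * k ∈ N := by
    intro p q e₀ f₀ z₀ k hs0 hz0 hp0 hk hin hin' w hw
    have hkD := mem_of_creach hk (mem_of_creach (creach_symm hp0) hs0.bad.memX)
    rcases hw with ⟨e, f, hs, hr, rfl⟩ | ⟨e, f, hs, hr, rfl⟩
    · have hz : Star hD q z₀ e :=
        ⟨hz0.bad.congr ((creach_symm hp0).trans hr), hz0.twins, hz0.trivial⟩
      have h1 := Star.conj hone hl hfaith hsmooth hrough hs hz ((creach_symm hr).trans hk)
      have h2 := hin _ _ h1 (hr.trans (by
        have := creach_conj hD ((creach_symm hr).trans hk) k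
        rw [inv_self hD hkD, RootInv.mul_self hD hkD, one_mul] at this
        exact ((creach_symm hr).trans hk).trans (creach_symm this)))
      rwa [show k * e * k * (k * f * k) = k * e * (k * k) * f * k by group,
        RootInv.mul_self hD hkD, mul_one, show k * e * f * k = k * (e * f) * k by group] at h2
    · have hs1 := hs.bad.star hone hl hk
      have hs2 : Star hD k (e * f * k * (e * f)) q := ⟨hs1.bad.congr (creach_symm hr), hs1.twins, hs1.trivial⟩
      have h2 := mul_mem (hin _ _ hs2 hk) (hin' _ _ hs hr)
      rwa [show k * (e * f * k * (e * f)) * (e * f) = k * (e * f) * k * (e * f * (e * f)) by group,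
        hs.bad.mul_self, mul_one] at h2
  set K := Subgroup.closure ({k | CReach D a k} ∪ {k | CReach D x k}) with hK
  have hKN : K ≤ Subgroup.normalizer (N : Set G) := by
    rw [hK, Subgroup.closure_le]
    intro k hk
    have hkD : k ∈ D := by
      rcases hk with hk | hk
      exacts [mem_of_creach hk hu.memA, mem_of_creach hk hu.memX]
    have hmap : N.map (MulAut.conj k).toMonoidHom ≤ N := by
      rw [hN, MonoidHom.map_closure, Subgroup.closure_le]
      rintro _ ⟨w, hw, rfl⟩
      show k * w * k⁻¹ ∈ N
      rw [inv_self hD hkD]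
      rcases hk with hk | hk
      · exact hnorm hsa hsx Relation.ReflTransGen.refl hk
          (fun e f h r => Subgroup.subset_closure (Or.inl ⟨e, f, h, r, rfl⟩))
          (fun e f h r => Subgroup.subset_closure (Or.inr ⟨e, f, h, r, rfl⟩)) w hw
      · exact hnorm hsx hsa Relation.ReflTransGen.refl hk
          (fun e f h r => Subgroup.subset_closure (Or.inr ⟨e, f, h, r, rfl⟩))
          (fun e f h r => Subgroup.subset_closure (Or.inl ⟨e, f, h, r, rfl⟩)) w hw.symm
    rw [SetLike.mem_coe, Subgroup.mem_normalizer_iff]
    intro n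
    refine ⟨fun hn => hmap ⟨n, hn, rfl⟩, fun hn => ?_⟩
    have := hmap ⟨_, hn, rfl⟩
    change k * (k * n * k⁻¹) * k⁻¹ ∈ N at this
    rwa [show k * (k * n * k⁻¹) * k⁻¹ = k * k * n * (k * k)⁻¹ by group,
      RootInv.mul_self hD hkD, one_mul, inv_one, mul_one] at this
  have hKtop : K ≠ ⊤ := by
    intro htop
    have : N.Normal := Subgroup.normalizer_eq_top_iff.mp (top_le_iff.mp (htop ▸ hKN))
    refine hsa.bad.ne_one ?_
    rw [← Subgroup.mem_bot, ← hfaith, mem_pointKer hD]
    intro b hb
    obtain ⟨t, rfl⟩ := hone a hu.memA b hb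
    have hw : a * f ∈ N := Subgroup.subset_closure (Or.inl ⟨a, f, hsa, Relation.ReflTransGen.refl, rfl⟩)
    have h1 := (pointStab_conj hD (h := t)).mpr
      (hNle ((inferInstance : N.Normal).conj_mem _ hw t⁻¹)).1
    rwa [show t * (t⁻¹ * (a * f) * t⁻¹⁻¹) * t⁻¹ = a * f by group] at h1
  obtain ⟨g', q', l', hg', hq', hgl, hag, haq, hal, hc'⟩ := exists_rough (hD := hD) hone hl hrough hu.memA
  exact hc' (hsmooth K hKtop g' hg' q' hq' l' a hu.memA x hu.memX
    (Subgroup.subset_closure (Or.inl (creach_of_commute hu.memA hg' hag)))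
    (Subgroup.subset_closure (Or.inl (creach_of_commute hu.memA hq' haq)))
    (Subgroup.subset_closure (Or.inl (creach_of_commute hu.memA hgl.2.1 hal)))
    (Subgroup.subset_closure (Or.inl Relation.ReflTransGen.refl))
    (Subgroup.subset_closure (Or.inr Relation.ReflTransGen.refl)) hag haq
    (fun h => hu.apart (creach_symm h)) hgl)

end CfsgLib.RootPoints
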