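import Cfsg.Agent.RootInvolutions.Disconnected.Points

/-!
A product `u = x * y` of two commuting members fixing a second component `a`: it maps every member
`g` of that component to a twin, a commuting member with the same commuting members.
-/

set_option autoImplicit false

namespace CfsgLib.RootPoints

open Cfsg CfsgLib.RootInv CfsgLib.RootInv99

variable {G : Type*} [Group G] {D : Set G}

/-- `x * y` is a product of two commuting members fixing the component of `a`. -/
structure BadFix (hD : IsRootInvolutionSet D) (x y a : G) : Prop where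
  memX : x ∈ D
  memY : y ∈ D
  comm : Commute x y
  ne : x ≠ y
  memA : a ∈ D
  apart : ¬ CReach D x a
  fixes : x * y ∈ pointStab hD a

/-- The same commuting members. -/
def Tw (D : Set G) (a b : G) : Prop := ∀ t ∈ D, Commute t a ↔ Commute t b

theorem Tw.symm {a b : G} (h : Tw D a b) : Tw D b a := fun t ht => (h t ht).symm

theorem Tw.trans {a b c : G} (h : Tw D a b) (h' : Tw D b c) : Tw D a c :=
  fun t ht => (h t ht).trans (h' t ht)

theorem Tw.commute {a b : G} (h : Tw D a b) (ha : a ∈ D) : Commute a b :=
  (h a ha).mp (Commute.refl a)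

theorem Tw.conj (hD : IsRootInvolutionSet D) {a b : G} (h : Tw D a b) (g : G) :
    Tw D (g * a * g⁻¹) (g * b * g⁻¹) := by
  intro t ht
  have ht' := hD.conj_mem t ht g⁻¹
  have e : g * (g⁻¹ * t * g⁻¹⁻¹) * g⁻¹ = t := by group
  rw [← e, Commute.conj_iff, Commute.conj_iff]
  exact h _ ht'

variable {hD : IsRootInvolutionSet D} {x y a g h l : G}

namespace BadFix

theorem mul_self (hu : BadFix hD x y a) : x * y * (x * y) = 1 := by
  rw [show x * y * (x * y) = x * (y * x) * y by group, ← hu.comm.eq,
    show x * (x * y) * y = x * x * (y * y) by group, RootInv.mul_self hD hu.memX,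
    RootInv.mul_self hD hu.memY, one_mul]

theorem inv_eq (hu : BadFix hD x y a) : (x * y)⁻¹ = x * y :=
  inv_eq_of_mul_eq_one_right hu.mul_self

theorem ne_one (hu : BadFix hD x y a) : x * y ≠ 1 := fun h => hu.ne (by
  rw [mul_eq_one_iff_eq_inv, inv_self hD hu.memY] at h
  exact h)

theorem orderOf_two (hu : BadFix hD x y a) : orderOf (x * y) = 2 :=
  StronglyEmbedded.orderOf_two_iff.mpr ⟨hu.mul_self, hu.ne_one⟩

theorem swap (hu : BadFix hD x y a) : BadFix hD y x a :=
  ⟨hu.memY, hu.memX, hu.comm.symm, hu.ne.symm, hu.memA,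
    fun h => hu.apart ((creach_of_commute hu.memX hu.memY hu.comm).trans h),
    hu.comm.eq ▸ hu.fixes⟩

theorem congr (hu : BadFix hD x y a) (hg : CReach D a g) : BadFix hD x y g :=
  ⟨hu.memX, hu.memY, hu.comm, hu.ne, mem_of_creach hg hu.memA,
    fun h => hu.apart (h.trans (creach_symm hg)), pointStab_congr hD hg ▸ hu.fixes⟩

theorem fixes_home (hu : BadFix hD x y a) : x * y ∈ pointStab hD x :=
  mem_pointStab_of_commute hD ((Commute.refl x).mul_left hu.comm.symm)

theorem not_commute (hu : BadFix hD x y a) (hg : CReach D a g) : ¬ Commute g (x * y) := fun h =>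
  (hu.congr hg).apart (creach_of_commute_mul hD hu.memX hu.memY hu.comm hu.ne
    (mem_of_creach hg hu.memA) h)

theorem conj_mem (hu : BadFix hD x y a) (hg : g ∈ D) : x * y * g * (x * y) ∈ D := by
  have := hD.conj_mem g hg (x * y)
  rwa [hu.inv_eq] at this

theorem creach_conj_right (hu : BadFix hD x y a) (hg : CReach D a g) :
    CReach D a (x * y * g * (x * y)) := by
  have h1 := hu.fixes
  rw [mem_pointStab hD] at h1
  have h2 := h1.trans (creach_conj hD hg (x * y))
  rwa [hu.inv_eq] at h2

theorem conj_conj (hu : BadFix hD x y a) (g : G) :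
    x * y * (x * y * g * (x * y)) * (x * y) = g := by
  rw [show x * y * (x * y * g * (x * y)) * (x * y) = x * y * (x * y) * g * (x * y * (x * y)) by
    group, hu.mul_self, one_mul, mul_one]

theorem ne_conj (hu : BadFix hD x y a) (hg : CReach D a g) : g ≠ x * y * g * (x * y) := fun h => by
  refine hu.not_commute hg (Commute.symm (StronglyEmbedded.commute_iff_conj_eq.mpr ?_))
  rw [hu.inv_eq]
  exact h.symm

variable [Finite G]

/-- The members of the fixed component commute with their conjugates. -/
theorem commute_conj (hu : BadFix hD x y a) (hg : CReach D a g) :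
    Commute g (x * y * g * (x * y)) := by
  have hgD := mem_of_creach hg hu.memA
  have hg' := hu.conj_mem hgD
  set g' := x * y * g * (x * y) with hdef
  have hgg' : CReach D g g' := (creach_symm hg).trans (hu.creach_conj_right hg)
  by_contra hc
  rcases odd_or_pow_four hD hgD hg' with ⟨-, ho⟩ | h4
  · obtain ⟨m, hm, -, hcom, hK⟩ := exists_mid hD hgD hg' ho
    have hgm : CReach D g m := creach_of_mem_pointStab hD hgD hm
      (hK _ (self_mem_pointStab hD) (pointStab_congr hD hgg' ▸ self_mem_pointStab hD))
    exact hu.not_commute (hg.trans hgm) (hcom (x * y) hu.orderOf_two hdef.symm).symm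
  · set d := (g * g') ^ 2 with hd
    have hdD : d ∈ D := sq_mem hD hgD hg' hc h4
    have hgd : CReach D g d := creach_of_commute hgD hdD (commute_sq_left hD hgD hg' h4).symm
    refine hu.not_commute (hg.trans hgd) (Commute.symm (StronglyEmbedded.commute_iff_conj_eq.mpr ?_))
    have e : x * y * d * (x * y)⁻¹ = (g' * g) ^ 2 := by
      rw [hd, ← conj_pow]
      congr 1
      rw [hdef, hu.inv_eq, show x * y * (g * (x * y * g * (x * y))) * (x * y) =
        x * y * g * (x * y) * g * (x * y * (x * y)) by group, hu.mul_self, mul_one]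
    rw [e, hd, ← inv_self hD hg', ← inv_self hD hgD, ← mul_inv_rev, inv_pow, inv_self hD hg',
      inv_self hD hgD]
    exact inv_eq_of_mul_eq_one_right (by rw [← pow_add]; exact h4)

/-- The product with a conjugate commutes with `x * y`. -/
theorem commute_pair (hu : BadFix hD x y a) (hg : CReach D a g) :
    Commute (g * (x * y * g * (x * y))) (x * y) := by
  refine Commute.symm (StronglyEmbedded.commute_iff_conj_eq.mpr ?_)
  have h := (hu.commute_conj hg).eq
  calc x * y * (g * (x * y * g * (x * y))) * (x * y)⁻¹
      = x * y * g * (x * y) * g * (x * y * (x * y)⁻¹) := by group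
    _ = g * (x * y * g * (x * y)) := by rw [mul_inv_cancel, mul_one, h]

/-- The product with a conjugate fixes the component of `x`. -/
theorem pair (hu : BadFix hD x y a) (hg : CReach D a g) :
    BadFix hD g (x * y * g * (x * y)) x :=
  ⟨mem_of_creach hg hu.memA, hu.conj_mem (mem_of_creach hg hu.memA), hu.commute_conj hg,
    hu.ne_conj hg, hu.memX, fun h => (hu.congr hg).apart (creach_symm h),
    mem_pointStab_of_commute_mul hD hu.memX hu.memY hu.comm hu.ne (hu.commute_pair hg)⟩

theorem conj_mem_pointStab (hu : BadFix hD x y a) (hg : CReach D a g) :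
    g * (x * y) * g ∈ pointStab hD x := by
  have h1 := mul_mem (hu.pair hg).fixes hu.fixes_home
  rwa [show g * (x * y * g * (x * y)) * (x * y) = g * (x * y) * g * (x * y * (x * y)) by group,
    hu.mul_self, mul_one] at h1

/-- The members of the fixed component map `x` into the fixed components. -/
theorem fixes_conj (hu : BadFix hD x y a) (hg : CReach D a g) :
    x * y ∈ pointStab hD (g * x * g⁻¹) := by
  have hgD := mem_of_creach hg hu.memA
  have h1 := (pointStab_conj hD (h := g)).mpr (hu.conj_mem_pointStab hg)
  rwa [show g * (g * (x * y) * g) * g⁻¹ = g * g * (x * y) * (g * g⁻¹) by group,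
    RootInv.mul_self hD hgD, one_mul, mul_inv_cancel, mul_one] at h1

/-- So does the product of two commuting ones. -/
theorem fixes_conj_mul (hu : BadFix hD x y a) (hg : CReach D a g) (hh : CReach D a h)
    (hgh : Commute g h) : x * y ∈ pointStab hD (g * h * x * (g * h)⁻¹) := by
  have hgD := mem_of_creach hg hu.memA
  have hhD := mem_of_creach hh hu.memA
  by_cases hne : g = h
  · subst hne
    rw [RootInv.mul_self hD hgD, inv_one, mul_one, one_mul]
    exact hu.fixes_home
  set w := g * h with hw
  have hw2 : w * w = 1 := by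
    rw [hw, show g * h * (g * h) = g * (h * g) * h by group, ← hgh.eq,
      show g * (g * h) * h = g * g * (h * h) by group, RootInv.mul_self hD hgD,
      RootInv.mul_self hD hhD, one_mul]
  by_cases hfix : w ∈ pointStab hD x
  · rw [← pointStab_congr hD ((mem_pointStab hD).mp hfix)]
    exact hu.fixes_home
  have hx' := hD.conj_mem x hu.memX w
  obtain ⟨m, hm, hmx, hcom, -⟩ :=
    exists_mid hD hu.memX hx' (odd_of_not_creach hD hu.memX hx' hfix).2
  have hw1 : w ≠ 1 := fun e => hne (by
    rw [hw, mul_eq_one_iff_eq_inv, inv_self hD hhD] at e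
    exact e)
  have hwm : Commute w m := hcom w (StronglyEmbedded.orderOf_two_iff.mpr ⟨hw2, hw1⟩)
    (by rw [inv_eq_of_mul_eq_one_right hw2])
  have hgm : CReach D g m := creach_of_commute_mul hD hgD hhD hgh hne hm hwm.symm
  have h1 := hu.fixes_conj (hg.trans hgm)
  rwa [inv_self hD hm, hmx] at h1

/-- The commutator of a pair from the fixed component fixes `x`. -/
theorem sq_mem_pointStab (hu : BadFix hD x y a) (hg : CReach D a g) (hh : CReach D a h)
    (hgh : Commute g h) :
    x * y * g * (x * y) * h * (x * y * g * (x * y) * h) ∈ pointStab hD x := by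
  have hgD := mem_of_creach hg hu.memA
  have hhD := mem_of_creach hh hu.memA
  set u := x * y with hu0
  set g' := u * g * u with hg'
  have h1 := (pointStab_conj hD (h := g)).mpr (hu.fixes_conj_mul hh hg hgh.symm)
  rw [show g * (h * g * x * (h * g)⁻¹) * g⁻¹ = g * h * g * x * (g * h * g)⁻¹ by group,
    show g * h * g = h by rw [hgh.eq, mul_assoc, RootInv.mul_self hD hgD, mul_one],
    inv_self hD hgD] at h1
  have h2 : g * g' ∈ pointStab hD (h * x * h⁻¹) := by
    have := mul_mem h1 (hu.fixes_conj hh)
    rwa [show g * (x * y) * g * (x * y) = g * g' by rw [hg', hu0]; group] at this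
  have h3 := (pointStab_conj hD (h := h)).mpr h2
  rw [show h * (h * x * h⁻¹) * h⁻¹ = h * h * x * (h * h)⁻¹ by group, RootInv.mul_self hD hhD,
    inv_one, mul_one, one_mul] at h3
  have h4 := mul_mem (inv_mem (hu.pair hg).fixes) h3
  rwa [show (g * (x * y * g * (x * y)))⁻¹ * (h * (g * g') * h⁻¹) = g' * h * (g' * h) by
    rw [show x * y * g * (x * y) = g' from rfl, mul_inv_rev, inv_self hD hhD, inv_self hD hgD,
      inv_self hD (hu.conj_mem hgD), show h * (g * g') * h = h * g * g' * h by group,
      ← hgh.eq, show g' * g * (g * h * g' * h) = g' * (g * g) * h * g' * h by group,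
      RootInv.mul_self hD hgD, mul_one]
    group] at h4

theorem commute_or_odd (hu : BadFix hD x y a) (hg : CReach D a g) (hh : CReach D a h)
    (hgh : Commute g h) : Commute h (x * y * g * (x * y)) ∨
      (h ≠ x * y * g * (x * y) ∧ Odd (orderOf (h * (x * y * g * (x * y)))) ∧
        x * y * g * (x * y) * h ∈ pointStab hD x) := by
  have hhD := mem_of_creach hh hu.memA
  have hg' := hu.conj_mem (mem_of_creach hg hu.memA)
  set g' := x * y * g * (x * y) with hdef
  have hs := hu.sq_mem_pointStab hg hh hgh
  rw [← hdef] at hs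
  rcases odd_or_pow_four hD hhD hg' with ⟨hne, ho⟩ | h4
  · refine Or.inr ⟨hne, ho, ?_⟩
    rw [odd_comm hD hhD hg'] at ho
    obtain ⟨i, hi⟩ := ho
    have e : g' * h = (g' * h * (g' * h)) ^ (i + 1) := by
      rw [← pow_two, ← pow_mul, show 2 * (i + 1) = orderOf (g' * h) + 1 by omega, pow_succ,
        pow_orderOf_eq_one, one_mul]
    rw [e]
    exact pow_mem hs _
  · left
    by_contra hc
    have h4' := pow_four_comm hD hhD hg' h4
    have hσ := sq_mem hD hg' hhD (fun h' => hc h'.symm) h4'
    rw [← pow_two] at hs
    refine hu.apart ((creach_of_mem_pointStab hD hu.memX hσ hs).trans (creach_symm (hh.trans ?_)))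
    exact creach_of_commute hhD hσ (commute_sq_right hD hg' hhD h4').symm

theorem false_of_line (hu : BadFix hD x y a) (hg : CReach D a g) (hgh : Commute g h)
    (hl : Line D g l) (hh : CReach D a h) (hhl : Commute h l)
    (hne : h ≠ x * y * g * (x * y)) (ho : Odd (orderOf (h * (x * y * g * (x * y))))) : False := by
  have hgD := mem_of_creach hg hu.memA
  have hl' : CReach D a l := hg.trans (creach_of_commute hgD hl.2.1 (Line.commute hD hl))
  have hline : Line D (x * y * l * (x * y)) (x * y * g * (x * y)) := by
    refine ⟨hu.conj_mem hl.2.1, hu.conj_mem hgD, ?_⟩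
    rw [show x * y * l * (x * y) * (x * y * g * (x * y)) = x * y * l * (x * y * (x * y)) * g * (x * y)
      by group, hu.mul_self, mul_one, mul_assoc (x * y) l g]
    exact hu.conj_mem (Line.symm hD hl).2.2
  rcases hu.commute_or_odd hl' hh hhl.symm with hc | ⟨-, -, hs⟩
  · exact hne (hline.eq_of_commute_of_odd hD (mem_of_creach hh hu.memA) hc ho)
  · rcases hu.commute_or_odd hg hh hgh with hc | ⟨-, -, hs'⟩
    · exact not_commute_of_odd hD (mem_of_creach hh hu.memA) (hu.conj_mem hgD) hne ho hc
    · have h1 := mul_mem hs (inv_mem hs')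
      rw [mul_inv_rev, inv_self hD (mem_of_creach hh hu.memA), inv_self hD (hu.conj_mem hgD),
        show x * y * l * (x * y) * h * (h * (x * y * g * (x * y))) =
          x * y * l * (x * y) * (h * h) * (x * y * g * (x * y)) by group,
        RootInv.mul_self hD (mem_of_creach hh hu.memA), mul_one] at h1
      refine hu.apart ((creach_of_mem_pointStab hD hu.memX hline.2.2 h1).trans (creach_symm ?_))
      exact (hu.creach_conj_right hl').trans
        (creach_of_commute hline.1 hline.2.2 (Line.commute hD (hline.third hD)))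

/-- The conjugate of a member is a twin. -/
theorem twin (hu : BadFix hD x y a) (hone : OneClass D) (hl : ∃ b c, Line D b c)
    (hg : CReach D a g) : Tw D g (x * y * g * (x * y)) := by
  obtain ⟨b, c, hbc⟩ := hl
  have key : ∀ g h : G, CReach D a g → h ∈ D → Commute h g →
      Commute h (x * y * g * (x * y)) := by
    intro g h hg hhD hhg
    have hgD := mem_of_creach hg hu.memA
    have hh : CReach D a h := hg.trans (creach_of_commute hgD hhD hhg.symm)
    rcases hu.commute_or_odd hg hh hhg.symm with hc | ⟨hne, ho, -⟩
    · exact hc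
    exfalso
    obtain ⟨l, hgl⟩ := exists_line hD hone hbc hgD
    by_cases hhl : Commute h l
    · exact hu.false_of_line hg hhg.symm hgl hh hhl hne ho
    have h4 : (h * l) ^ 4 = 1 := hgl.pow_four_of_commute hD hhD hhg
    have hd := sq_mem hD hhD hgl.2.1 hhl h4
    have hhd : Line D h ((h * l) ^ 2) := by
      refine ⟨hhD, hd, ?_⟩
      rw [pow_two, show h * (h * l * (h * l)) = h * h * (l * h * l) by group,
        RootInv.mul_self hD hhD, one_mul]
      exact conj_self_mem hD hgl.2.1 hhD
    have hgd : Commute g ((h * l) ^ 2) :=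
      ((hhg.symm).mul_right (Line.commute hD hgl)).pow_right 2
    have hg'D := hu.conj_mem hgD
    have hh'D := hu.conj_mem hhD
    refine hu.false_of_line hh hhg hhd hg hgd ?_ ?_
    · intro e
      apply hne
      calc h = x * y * (x * y * h * (x * y)) * (x * y) := (hu.conj_conj h).symm
        _ = x * y * g * (x * y) := by rw [← e]
    · have e : h * (x * y * g * (x * y)) =
          x * y * (x * y * h * (x * y) * g) * (x * y)⁻¹ := by
        rw [hu.inv_eq, show x * y * (x * y * h * (x * y) * g) * (x * y) =
          x * y * (x * y) * h * (x * y * g * (x * y)) by group, hu.mul_self, one_mul]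
      rw [e, StronglyEmbedded.orderOf_conj, odd_comm hD hh'D hgD] at ho
      exact ho
  intro t ht
  refine ⟨key g t hg ht, fun h => ?_⟩
  have := key _ t (hu.creach_conj_right hg) ht h
  rwa [hu.conj_conj] at this

end BadFix

end CfsgLib.RootPoints
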