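import Cfsg.Agent.RootInvolutions.Disconnected.Restrict
import Cfsg.Agent.RootInvolutions.Disconnected.Twins
import Cfsg.Agent.RankOneBN.Glue
import Cfsg.Agent.StrongEmb.RegularCoreFinal
import Cfsg.Agent.StrongEmb.Glue

/-!
Without a product fixing two components the stabiliser of a component meets the strong embedding
criterion, and then members with a common neighbour commute.
-/

set_option autoImplicit false

universe u

namespace CfsgLib.RootPoints

open Cfsg CfsgLib.RootInv CfsgLib.RootInv99

variable {G : Type u} [Group G] [Finite G] {D : Set G} {hD : IsRootInvolutionSet D}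
  (hdis : ¬ IsConnectedSet (CommAdj D) D) (hl : ∃ b c, Line D b c)

include hdis

theorem isSimpleGroup_of_faithful (hl : ∃ b c, Line D b c) (hfaith : pointKer hD = ⊥) :
    IsSimpleGroup G := by
  have hone := oneClass_of_disconnected hD hdis
  obtain ⟨b, c, hbc⟩ := hl
  have hZ : twoZCore G ≤ pointKer hD := by
    intro n hn
    rw [mem_pointKer hD]
    intro d hd
    rw [mem_pointStab hD]
    have hd' := hD.conj_mem d hd n
    rcases odd_or_pow_four hD hd hd' with ⟨-, ho⟩ | h4
    · have hm : d * (n * d * n⁻¹) ∈ twoZCore G := by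
        rw [show d * (n * d * n⁻¹) = d * n * d⁻¹ * (d * d) * n⁻¹ by group, RootInv.mul_self hD hd,
          mul_one]
        exact mul_mem ((inferInstance : (twoZCore G).Normal).conj_mem n hn d) (inv_mem hn)
      rw [← RootInv99.eq_of_mul_mem_twoZCore hD hd hd' ho hm]
    · exact creach_of_pow_four hD hd hd' h4
  have hbot : twoZCore G = ⊥ := le_bot_iff.mp (hfaith ▸ hZ)
  have : Nontrivial G := ⟨b, 1, RootInv.ne_one hD hbc.1⟩
  refine ⟨fun N hN => ?_⟩
  rcases eq_top_or_le_twoZCore hD hone hbc N with h | h
  · exact Or.inr h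
  · exact Or.inl (le_bot_iff.mp (hbot ▸ h))

variable (hno : ∀ x y a, ¬ BadFix hD x y a)

include hno

/-- Each component has odd size. -/
theorem odd_ncard_component {a : G} (ha : a ∈ D) : Odd {h | CReach D a h}.ncard := by
  obtain ⟨b, hb, hab⟩ := exists_apart (a := a) hdis
  have hbb := RootInv.mul_self hD hb
  have hbi := inv_self hD hb
  have hf' := conj_self_mem hD hb ha
  have hswap : ¬ CReach D a (b * a * b) := fun h =>
    hab (creach_of_mem_pointStab hD ha hb ((mem_pointStab_invol hD hbb).mpr h))
  set S : Set G := {t | t ∈ D ∧ CReach D (b * a * b) (t * a * t)} with hS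
  have hapart : ∀ t ∈ S, ¬ CReach D a t := fun t ht h => by
    have h1 := mem_pointStab_of_commute hD (Commute.refl t)
    rw [← pointStab_congr hD h] at h1
    exact hswap (((mem_pointStab_invol hD (RootInv.mul_self hD ht.1)).mp h1).trans (creach_symm ht.2))
  have hcard : S.ncard = {h | CReach D a h}.ncard := by
    refine Set.ncard_congr (fun t _ => b * (t * a * t) * b) (fun t ht => ?_)
      (fun t t' ht ht' he => eq_of_conj_eq (odd_of_not_creach hD ha ht.1 (hapart t ht)).2
        (odd_of_not_creach hD ha ht'.1 (hapart t' ht')).2 (mul_left_cancel (mul_right_cancel he)))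
      (fun h hh => ?_)
    · have h1 := creach_conj hD ht.2 b
      rwa [hbi, show b * (b * a * b) * b = b * b * a * (b * b) by group, hbb, one_mul, mul_one] at h1
    · have hhD := mem_of_creach hh ha
      have h' : CReach D (b * a * b) (b * h * b) := by simpa [hbi] using creach_conj hD hh b
      obtain ⟨m, hm, hmh, -, -⟩ := exists_mid hD ha (conj_self_mem hD hb hhD)
        (odd_of_not_creach hD ha (conj_self_mem hD hb hhD)
          fun e => hswap (e.trans (creach_symm h'))).2
      refine ⟨m, ⟨hm, hmh.symm ▸ h'⟩, ?_⟩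
      rw [hmh, show b * (b * h * b) * b = b * b * h * (b * b) by group, hbb, one_mul, mul_one]
  have hbS : b ∈ S := ⟨hb, Relation.ReflTransGen.refl⟩
  have heven : Even (S \ {b}).ncard := by
    refine even_ncard_of_involution (fun t => b * t * b) (fun t ht => ⟨⟨?_, ?_⟩, ?_⟩)
      (fun t _ => ?_) (fun t ht e => ?_)
    · exact conj_self_mem hD hb ht.1.1
    · have h1 := creach_conj hD (creach_conj hD ht.1.2 t) b
      rw [inv_self hD ht.1.1, hbi, show t * (t * a * t) * t = t * t * a * (t * t) by group,
        RootInv.mul_self hD ht.1.1, one_mul, mul_one] at h1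
      rw [show b * t * b * a * (b * t * b) = b * (t * (b * a * b) * t) * b by group]
      exact creach_symm h1
    · intro e
      apply ht.2
      rw [Set.mem_singleton_iff] at e ⊢
      calc t = b * b * t * (b * b) := by rw [hbb, one_mul, mul_one]
        _ = b * (b * t * b) * b := by group
        _ = b := by rw [e, hbb, one_mul]
    · rw [show b * (b * t * b) * b = b * b * t * (b * b) by group, hbb, one_mul, mul_one]
    · have hbt : Commute b t := StronglyEmbedded.commute_iff_conj_eq.mpr (by rw [hbi]; exact e)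
      have hfix : b * t ∈ pointStab hD a := by
        rw [mem_pointStab hD, mul_inv_rev, hbi, inv_self hD ht.1.1,
          show b * t * a * (t * b) = b * (t * a * t) * b by group]
        have h1 := creach_conj hD ht.1.2 b
        rwa [hbi, show b * (b * a * b) * b = b * b * a * (b * b) by group, hbb, one_mul, mul_one]
          at h1
      exact hno b t a ⟨hb, ht.1.1, hbt, fun e' => ht.2 e'.symm, ha,
        fun h => hab (creach_symm h), hfix⟩
  rw [← hcard, ← Set.ncard_sdiff_singleton_add_one hbS]
  exact heven.add_one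

/-- The number of members is odd. -/
theorem odd_ncard : Odd D.ncard := by
  obtain ⟨a, ha⟩ : D.Nonempty := Set.nonempty_iff_ne_empty.mpr fun e =>
    hdis (by rw [e]; exact fun x hx => hx.elim)
  set C := {h | CReach D a h} with hC
  have hCD : C ⊆ D := fun h hh => mem_of_creach hh ha
  have heven : Even (D \ C).ncard := by
    refine even_ncard_of_involution (fun t => a * t * a)
      (fun t ht => ⟨conj_self_mem hD ha ht.1, fun h => ht.2 ?_⟩) (fun t _ => ?_) (fun t ht e => ?_)
    · have h1 := creach_conj hD h a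
      rw [inv_self hD ha, show a * (a * t * a) * a = a * a * t * (a * a) by group,
        RootInv.mul_self hD ha, one_mul, mul_one, one_mul] at h1
      exact h1
    · rw [show a * (a * t * a) * a = a * a * t * (a * a) by group, RootInv.mul_self hD ha, one_mul,
        mul_one]
    · exact ht.2 (creach_of_commute ha ht.1
        (StronglyEmbedded.commute_iff_conj_eq.mpr (by rw [inv_self hD ha]; exact e)))
  have h := Set.ncard_sdiff_add_ncard_of_subset hCD
  rw [← h]
  exact heven.add_odd (odd_ncard_component hdis hno ha)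

omit hdis hno in
/-- A Sylow 2-subgroup centralises a member when their number is odd. -/
theorem exists_central (hD : IsRootInvolutionSet D) (hodd : Odd D.ncard) :
    ∃ d ∈ D, ∃ S : Sylow 2 G, d ∈ S ∧ ∀ s ∈ S, Commute s d := by
  have : Fact (Nat.Prime 2) := ⟨Nat.prime_two⟩
  obtain ⟨S⟩ := (inferInstance : Nonempty (Sylow 2 G))
  let _ : MulAction ↥(S : Subgroup G) ↥D :=
    { smul := fun s d => ⟨(s : G) * d * (s : G)⁻¹, hD.conj_mem d d.2 s⟩
      one_smul := fun d => Subtype.ext (show (1 : G) * d * (1 : G)⁻¹ = d by simp)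
      mul_smul := fun s t d => Subtype.ext (show (s * t : G) * d * (s * t : G)⁻¹ =
        s * (t * d * (t : G)⁻¹) * (s : G)⁻¹ by group) }
  obtain ⟨d, hd⟩ := S.isPGroup'.nonempty_fixed_point_of_prime_not_dvd_card (↥D)
    (by rw [Nat.card_coe_set_eq]; exact fun h => Nat.not_even_iff_odd.mpr hodd (even_iff_two_dvd.mpr h))
  have hc : ∀ s ∈ S, Commute s (d : G) := fun s hs =>
    StronglyEmbedded.commute_iff_conj_eq.mpr (congrArg Subtype.val (hd ⟨s, hs⟩))
  refine ⟨d, d.2, S, ?_, hc⟩
  have hp : IsPGroup 2 (Subgroup.zpowers (d : G)) :=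
    IsPGroup.of_card (n := 1) (by rw [Nat.card_zpowers, hD.orderOf_eq d d.2, pow_one])
  have hle : (S : Subgroup G) ≤ Subgroup.normalizer (Subgroup.zpowers (d : G) : Set G) :=
    le_trans (fun s hs => Subgroup.mem_centralizer_iff.mpr fun t ht => by
        obtain ⟨i, rfl⟩ := Subgroup.mem_zpowers_iff.mp ht
        exact ((hc s hs).zpow_right i).eq.symm) (Subgroup.centralizer_le_normalizer _)
  have hmax := S.is_maximal' (S.isPGroup'.to_sup_of_normal_right' hp hle) le_sup_left
  show (d : G) ∈ (S : Subgroup G)
  rw [← hmax]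
  exact Subgroup.mem_sup_right (Subgroup.mem_zpowers _)

include hl in
/-- A strongly embedded subgroup. -/
theorem exists_stronglyEmbedded (hc : RankOneBN.Criterion.{u}) (hfaith : pointKer hD = ⊥) :
    ∃ H : Subgroup G, IsStronglyEmbedded H := by
  have := isSimpleGroup_of_faithful hdis hl hfaith
  obtain ⟨d, hd, S, hdS, hS⟩ := exists_central hD (odd_ncard hdis hno)
  obtain ⟨b, hb, hdb⟩ := exists_apart (a := d) hdis
  refine hc G (pointStab hD d) (fun h => hdb ?_) d (hD.orderOf_eq d hd) (self_mem_pointStab hD)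
    ⟨S, hdS, hS⟩ (fun g hg => ?_) (fun g hc' hne g' hg' => ?_)
  · exact creach_of_mem_pointStab hD hd hb (h ▸ Subgroup.mem_top b)
  · exact creach_of_mem_pointStab hD hd (hD.conj_mem d hd g) hg
  · exact mem_pointStab_of_commute_mul hD hd (hD.conj_mem d hd g) hc' hne.symm
      (Subgroup.mem_centralizer_singleton_iff.mp hg')

include hl in
/-- Members with a common neighbour commute. -/
theorem commute_of_common (hc : RankOneBN.Criterion.{u}) (hfaith : pointKer hD = ⊥) {e g q : G}
    (he : e ∈ D) (hg : g ∈ D) (hq : q ∈ D) (heg : Commute e g) (heq : Commute e q) :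
    Commute g q := by
  have := isSimpleGroup_of_faithful hdis hl hfaith
  obtain ⟨H, hH⟩ := exists_stronglyEmbedded hdis hl hno hc hfaith
  obtain ⟨h2, hcore⟩ := RankOneClassify.rankTwo_of_simple hH
  obtain ⟨Q, -, -, hQ⟩ := StrongEmb.pPlus_all StrongEmb.regularQAll G H hH h2 hcore
  obtain ⟨t, htH, ht⟩ := StronglyEmbedded.exists_involution hH
  obtain ⟨c, hct⟩ := isConj_iff.mp (StronglyEmbedded.isConj_involutions hH (hD.orderOf_eq e he) ht)
  have key : ∀ v ∈ D, Commute e v → orderOf (c * v * c⁻¹) = 2 ∧ c * v * c⁻¹ ∈ H := fun v hv hev =>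
    ⟨by rw [StronglyEmbedded.orderOf_conj]; exact hD.orderOf_eq v hv,
      StronglyEmbedded.mem_of_commute hH ht htH (hct ▸ (Commute.conj_iff c).mpr hev.symm)⟩
  obtain ⟨hg2, hgH⟩ := key g hg heg
  obtain ⟨hq2, hqH⟩ := key q hq heq
  exact (Commute.conj_iff c).mp ((hQ _ hg2 hgH).2 _ (hQ _ hq2 hqH).1)

end CfsgLib.RootPoints
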