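import Cfsg.Agent.RootInvolutions.Disconnected.Cliques

/-!
No product of two commuting members fixes a second component, when this holds inside proper
subgroups and no nontrivial element fixes all components.
-/

set_option autoImplicit false

namespace CfsgLib.RootPoints

open Cfsg CfsgLib.RootInv CfsgLib.RootInv99

variable {G : Type*} [Group G] {D : Set G}

/-- Inside a proper subgroup, a product fixing a second component fixes every component. -/
def SubFixAll (D : Set G) : Prop :=
  ∀ K : Subgroup G, K ≠ ⊤ → ∀ x ∈ D, ∀ y ∈ D, ∀ a ∈ D, x ∈ K → y ∈ K → a ∈ K → Commute x y →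
    x ≠ y → ¬ CReach D x a → Commute a (x * y * a * (x * y)) → ∀ l : G, Line D a l → l ∈ K →
    ∀ z ∈ D, z ∈ K → CReach D z (x * y * z * (x * y))

variable {hD : IsRootInvolutionSet D} [Finite G] (hone : OneClass D) (hl : ∃ b c, Line D b c)
  (hfaith : pointKer hD = ⊥) {x y a : G}

include hone hfaith

/-- With cliques for components, a bad pair gives a proper subgroup through both components. -/
theorem exists_proper_of_clique (hcl : ∀ g h, g ∈ D → CReach D g h → Commute g h)
    (hu : BadFix hD x y a) :
    ∃ K : Subgroup G, K ≠ ⊤ ∧ ∀ h, CReach D x h ∨ CReach D a h → h ∈ K := by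
  let U : Set G := {w | ∃ c c' b, BadFix hD c c' b ∧ w = c * c' ∧
    ((CReach D x c ∧ CReach D a b) ∨ (CReach D a c ∧ CReach D x b))}
  set N := Subgroup.closure U with hN
  have hNle : N ≤ pointStab hD a ⊓ pointStab hD x := by
    rw [hN, Subgroup.closure_le]
    rintro _ ⟨c, c', b, hb, rfl, ⟨h1, h2⟩ | ⟨h1, h2⟩⟩
    · exact ⟨pointStab_congr hD h2 ▸ hb.fixes, pointStab_congr hD h1 ▸ hb.fixes_home⟩
    · exact ⟨pointStab_congr hD h1 ▸ hb.fixes_home, pointStab_congr hD h2 ▸ hb.fixes⟩
  have hstep : ∀ {p q k : G}, p ∈ D → CReach D p k →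
      (∀ c c' b, BadFix hD c c' b → CReach D p c → CReach D q b → c * c' ∈ N) →
      (∀ c c' b, BadFix hD c c' b → CReach D q c → CReach D p b → c * c' ∈ N) →
      ∀ c c' b, BadFix hD c c' b →
        ((CReach D p c ∧ CReach D q b) ∨ (CReach D q c ∧ CReach D p b)) →
        k * (c * c') * k ∈ N := by
    intro p q k hp hk hin hin' c c' b hb hcb
    have hkD := mem_of_creach hk hp
    rcases hcb with ⟨h1, h2⟩ | ⟨h1, h2⟩
    · have hkc : CReach D k c := (creach_symm hk).trans h1
      have hcom : Commute k (c * c') := (hcl k c hkD hkc).mul_right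
        (hcl k c' hkD (hkc.trans (creach_of_commute hb.memX hb.memY hb.comm)))
      rw [hcom.eq, mul_assoc, RootInv.mul_self hD hkD, mul_one]
      exact hin c c' b hb h1 h2
    · have h := mul_mem (hin _ _ _ (hb.pair ((creach_symm h2).trans hk)) hk h1)
        (hin' c c' b hb h1 h2)
      rwa [show k * (c * c' * k * (c * c')) * (c * c') = k * (c * c') * k * (c * c' * (c * c'))
        by group, hb.mul_self, mul_one] at h
  set K := Subgroup.closure {h | CReach D x h ∨ CReach D a h} with hK
  refine ⟨K, fun htop => ?_, fun h hh => Subgroup.subset_closure hh⟩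
  have hKN : K ≤ Subgroup.normalizer (N : Set G) := by
    rw [hK, Subgroup.closure_le]
    intro k hk
    have hkD : k ∈ D := by
      rcases hk with hk | hk
      exacts [mem_of_creach hk hu.memX, mem_of_creach hk hu.memA]
    have hmap : N.map (MulAut.conj k).toMonoidHom ≤ N := by
      rw [hN, MonoidHom.map_closure, Subgroup.closure_le]
      rintro _ ⟨_, ⟨c, c', b, hb, rfl, hcb⟩, rfl⟩
      show k * (c * c') * k⁻¹ ∈ N
      rw [inv_self hD hkD]
      rcases hk with hk | hk
      · exact hstep hu.memX hk
          (fun c c' b hb h1 h2 => Subgroup.subset_closure ⟨c, c', b, hb, rfl, Or.inl ⟨h1, h2⟩⟩)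
          (fun c c' b hb h1 h2 => Subgroup.subset_closure ⟨c, c', b, hb, rfl, Or.inr ⟨h1, h2⟩⟩)
          c c' b hb hcb
      · exact hstep hu.memA hk
          (fun c c' b hb h1 h2 => Subgroup.subset_closure ⟨c, c', b, hb, rfl, Or.inr ⟨h1, h2⟩⟩)
          (fun c c' b hb h1 h2 => Subgroup.subset_closure ⟨c, c', b, hb, rfl, Or.inl ⟨h1, h2⟩⟩)
          c c' b hb hcb.symm
    rw [SetLike.mem_coe, Subgroup.mem_normalizer_iff]
    intro n
    refine ⟨fun hn => hmap ⟨n, hn, rfl⟩, fun hn => ?_⟩
    have := hmap ⟨_, hn, rfl⟩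
    change k * (k * n * k⁻¹) * k⁻¹ ∈ N at this
    rwa [show k * (k * n * k⁻¹) * k⁻¹ = k * k * n * (k * k)⁻¹ by group,
      RootInv.mul_self hD hkD, one_mul, inv_one, mul_one] at this
  have : N.Normal := Subgroup.normalizer_eq_top_iff.mp (top_le_iff.mp (htop ▸ hKN))
  refine hu.ne_one ?_
  rw [← Subgroup.mem_bot, ← hfaith, mem_pointKer hD]
  intro b hb
  obtain ⟨t, rfl⟩ := hone a hu.memA b hb
  have hw : x * y ∈ N := Subgroup.subset_closure
    ⟨x, y, a, hu, rfl, Or.inl ⟨Relation.ReflTransGen.refl, Relation.ReflTransGen.refl⟩⟩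
  have h1 := (pointStab_conj hD (h := t)).mpr
    (hNle ((inferInstance : N.Normal).conj_mem _ hw t⁻¹)).1
  rwa [show t * (t⁻¹ * (x * y) * t⁻¹⁻¹) * t⁻¹ = x * y by group] at h1

omit hone hfaith in
/-- A product moving the fixed component of another one yields a bad pair. -/
theorem exists_pair_of_moves (hcl : ∀ g h, g ∈ D → CReach D g h → Commute g h)
    {g g' f : G} (hu : BadFix hD x y f) (hg : g ∈ D) (hg' : g' ∈ D) (hgg : Commute g g')
    (hne : g ≠ g') (hgf : ¬ CReach D g f) :
    ∃ p p', BadFix hD p p' f ∧ CReach D g p := by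
  set v := g * g' with hv
  by_cases hfix : v ∈ pointStab hD f
  · exact ⟨g, g', ⟨hg, hg', hgg, hne, hu.memA, hgf, hfix⟩, Relation.ReflTransGen.refl⟩
  have hv2 : v * v = 1 := by
    rw [hv, show g * g' * (g * g') = g * (g' * g) * g' by group, ← hgg.eq,
      show g * (g * g') * g' = g * g * (g' * g') by group, RootInv.mul_self hD hg,
      RootInv.mul_self hD hg', one_mul]
  have hvi : v⁻¹ = v := inv_eq_of_mul_eq_one_right hv2
  have hv1 : v ≠ 1 := fun e => hne (by
    rw [hv, mul_eq_one_iff_eq_inv, inv_self hD hg'] at e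
    exact e)
  have hfD := hu.memA
  have hf'D : v * f * v ∈ D := by
    have := hD.conj_mem f hfD v
    rwa [hvi] at this
  have hff' : ¬ CReach D f (v * f * v) := fun h => hfix ((mem_pointStab_invol hD hv2).mpr h)
  set f' := v * f * v with hf'
  have hvf' : v * f' * v = f := by
    rw [hf', show v * (v * f * v) * v = v * v * f * (v * v) by group, hv2, one_mul, mul_one]
  set S : Set G := {t | t ∈ D ∧ CReach D f' (t * f * t)} with hS
  have hapart : ∀ t ∈ S, ¬ CReach D f t := fun t ht h => by
    have h1 := mem_pointStab_of_commute hD (hcl f t hfD h).symm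
    exact hff' (((mem_pointStab_invol hD (RootInv.mul_self hD ht.1)).mp h1).trans (creach_symm ht.2))
  have hcard : S.ncard = {h | CReach D f' h}.ncard := by
    refine Set.ncard_congr (fun t _ => t * f * t) (fun t ht => ht.2)
      (fun t t' ht ht' he => eq_of_conj_eq (odd_of_not_creach hD hfD ht.1 (hapart t ht)).2
        (odd_of_not_creach hD hfD ht'.1 (hapart t' ht')).2 he) (fun h hh => ?_)
    have hhD := mem_of_creach hh hf'D
    obtain ⟨m, hm, hmh, -, -⟩ := exists_mid hD hfD hhD
      (odd_of_not_creach hD hfD hhD fun e => hff' (e.trans (creach_symm hh))).2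
    exact ⟨m, ⟨hm, hmh.symm ▸ hh⟩, hmh⟩
  have hcard' : {h | CReach D f h}.ncard = {h | CReach D f' h}.ncard := by
    refine Set.ncard_congr (fun h _ => v * h * v) (fun h hh => ?_)
      (fun h h' _ _ he => mul_left_cancel (mul_right_cancel he)) (fun h hh => ?_)
    · have := creach_conj hD hh v
      rwa [hvi] at this
    · refine ⟨v * h * v, ?_, ?_⟩
      · have := creach_conj hD hh v
        rw [hvi, hvf'] at this
        exact this
      · rw [show v * (v * h * v) * v = v * v * h * (v * v) by group, hv2, one_mul, mul_one]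
  have heven : Even S.ncard := by
    rw [hcard, ← hcard']
    exact even_ncard_of_involution (fun h => x * y * h * (x * y))
      (fun h hh => hu.creach_conj_right hh) (fun h _ => hu.conj_conj h)
      (fun h hh => (hu.ne_conj hh).symm)
  have hmap : ∀ t ∈ S, v * t * v ∈ S := fun t ht => by
    refine ⟨by simpa [hvi] using hD.conj_mem t ht.1 v, ?_⟩
    have h1 := creach_conj hD (creach_conj hD ht.2 t) v
    rw [inv_self hD ht.1, hvi, show t * (t * f * t) * t = t * t * f * (t * t) by group,
      RootInv.mul_self hD ht.1, one_mul, mul_one] at h1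
    rw [show v * t * v * f * (v * t * v) = v * (t * (v * f * v) * t) * v by group]
    exact creach_symm h1
  obtain ⟨m, hm, hmf, hcom, -⟩ :=
    exists_mid hD hfD hf'D (odd_of_not_creach hD hfD hf'D hff').2
  have hvm : Commute v m := hcom v (StronglyEmbedded.orderOf_two_iff.mpr ⟨hv2, hv1⟩) hf'.symm
  have hmS : m ∈ S := ⟨hm, by rw [hmf]⟩
  obtain ⟨t, ht, htm, hvt⟩ : ∃ t ∈ S, t ≠ m ∧ v * t * v = t := by
    by_contra hno
    push Not at hno
    have h1 : Even (S \ {m}).ncard := by
      refine even_ncard_of_involution (fun t => v * t * v) (fun t ht => ⟨hmap t ht.1, ?_⟩)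
        (fun t _ => ?_) (fun t ht => hno t ht.1 ht.2)
      · intro e
        apply ht.2
        rw [Set.mem_singleton_iff] at e ⊢
        calc t = v * v * t * (v * v) := by rw [hv2, one_mul, mul_one]
          _ = v * (v * t * v) * v := by group
          _ = m := by rw [e, hvm.eq, mul_assoc, hv2, mul_one]
      · rw [show v * (v * t * v) * v = v * v * t * (v * v) by group, hv2, one_mul, mul_one]
    rw [← Set.ncard_sdiff_singleton_add_one hmS, Nat.even_add_one] at heven
    exact heven h1
  have htv : Commute t v := by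
    refine Commute.symm (StronglyEmbedded.commute_iff_conj_eq.mpr ?_)
    rwa [hvi]
  have hgm : CReach D g m := creach_of_commute_mul hD hg hg' hgg hne hm hvm.symm
  have hgt : CReach D g t := creach_of_commute_mul hD hg hg' hgg hne ht.1 htv
  have hmt := hcl m t hm ((creach_symm hgm).trans hgt)
  refine ⟨m, t, ⟨hm, ht.1, hmt, fun e => htm e.symm, hfD, fun h => hgf (hgm.trans h), ?_⟩, hgm⟩
  rw [mem_pointStab hD]
  have h1 := creach_conj hD ht.2 m
  have h2 : m * f' * m = f := by
    rw [← hmf, show m * (m * f * m) * m = m * m * f * (m * m) by group, RootInv.mul_self hD hm,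
      one_mul, mul_one]
  rw [inv_self hD hm, h2] at h1
  rwa [mul_inv_rev, inv_self hD hm, inv_self hD ht.1,
    show m * t * f * (t * m) = m * (t * f * t) * m by group]

include hl

/-- No product of two commuting members fixes a second component. -/
theorem not_badFix (hsmooth : ProperSmooth D) (hind : SubFixAll D) : ¬ BadFix hD x y a := by
  intro hu
  have hcl : ∀ g h, g ∈ D → CReach D g h → Commute g h := fun g h hg hgh =>
    commute_of_creach hone hl hfaith hsmooth hu hg hgh
  obtain ⟨z, hz, hzu⟩ : ∃ z ∈ D, ¬ CReach D z (x * y * z * (x * y)) := by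
    by_contra hno
    push Not at hno
    refine hu.ne_one ?_
    rw [← Subgroup.mem_bot, ← hfaith, mem_pointKer hD]
    exact fun b hb => (mem_pointStab_invol hD hu.mul_self).mpr (hno b hb)
  set u := x * y with hudef
  have hz' : u * z * u ∈ D := hu.conj_mem hz
  obtain ⟨m, hm, hmz, hcom, -⟩ := exists_mid hD hz hz' (odd_of_not_creach hD hz hz' hzu).2
  have hum : Commute u m := hcom u hu.orderOf_two rfl
  have hxm : CReach D x m :=
    creach_of_commute_mul hD hu.memX hu.memY hu.comm hu.ne hm hum.symm
  have hmx := hcl x m hu.memX hxm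
  have hxy := creach_of_commute hu.memX hu.memY hu.comm
  have hmy := hcl y m hu.memY ((creach_symm hxy).trans hxm)
  have hzz := RootInv.mul_self hD hz
  have hmm := RootInv.mul_self hD hm
  have huu : u * u = 1 := hu.mul_self
  have hzx : ¬ CReach D z x := fun h => hzu (by
    have hc : Commute z u := (hcl z x hz h).mul_right (hcl z y hz (h.trans hxy))
    rw [← hc.eq, mul_assoc, huu, mul_one])
  set g1 := z * x * z with hg1
  set g2 := z * y * z with hg2
  set g3 := z * m * z with hg3
  have hg1D : g1 ∈ D := conj_self_mem hD hz hu.memX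
  have hg2D : g2 ∈ D := conj_self_mem hD hz hu.memY
  have hg3D : g3 ∈ D := conj_self_mem hD hz hm
  have hzi := inv_self hD hz
  have hg12 : Commute g1 g2 := by
    have := (Commute.conj_iff z).mpr hu.comm
    rwa [hzi] at this
  have hg13 : Commute g1 g3 := by
    have := (Commute.conj_iff z).mpr hmx
    rwa [hzi] at this
  have hne12 : g1 ≠ g2 := fun e => hu.ne (mul_left_cancel (mul_right_cancel e))
  have hg1f : ¬ CReach D g1 a := by
    intro h
    have hfixm : m ∈ pointStab hD a := by
      have h1 := creach_conj hD h u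
      rw [hu.inv_eq] at h1
      have h2 := h1.trans (creach_symm ((mem_pointStab_invol hD huu).mp hu.fixes))
      have e : u * g1 * u = m * g1 * m := by
        have hux : Commute u x := (Commute.refl x).mul_left hu.comm.symm
        calc u * g1 * u = u * z * (u * u) * x * z * u := by rw [huu, mul_one, hg1]; group
          _ = u * z * u * (u * x) * z * u := by group
          _ = u * z * u * x * (u * z * u) := by rw [hux.eq]; group
          _ = m * z * (m * x) * m * z * m := by rw [← hmz]; group
          _ = m * z * x * (m * m) * z * m := by rw [← hmx.eq]; group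
          _ = m * g1 * m := by rw [hmm, mul_one, hg1]; group
      rw [e] at h2
      have h3 := creach_conj hD h2 m
      rw [inv_self hD hm, show m * (m * g1 * m) * m = m * m * g1 * (m * m) by group, hmm, one_mul,
        mul_one] at h3
      exact (mem_pointStab_invol hD hmm).mpr ((creach_symm h).trans h3)
    exact hu.apart (hxm.trans (creach_symm (creach_of_mem_pointStab hD hu.memA hm hfixm)))
  obtain ⟨p, p', hp, hg1p⟩ := exists_pair_of_moves (hD := hD) hcl hu hg1D hg2D hg12 hne12 hg1f
  obtain ⟨K, hK, hmem⟩ := exists_proper_of_clique hone hfaith hcl hp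
  have hpg := creach_symm hg1p
  have hg1K : g1 ∈ K := hmem _ (Or.inl hpg)
  have hg2K : g2 ∈ K := hmem _ (Or.inl (hpg.trans (creach_of_commute hg1D hg2D hg12)))
  have hg3K : g3 ∈ K := hmem _ (Or.inl (hpg.trans (creach_of_commute hg1D hg3D hg13)))
  have hfK : a ∈ K := hmem _ (Or.inr Relation.ReflTransGen.refl)
  have hf'K : u * a * u ∈ K := hmem _ (Or.inr (hu.creach_conj_right Relation.ReflTransGen.refl))
  have hjK : u * m ∈ K := by
    have e : g1 * g2 * g3 = u * m := by
      calc g1 * g2 * g3 = z * x * (z * z) * y * (z * z) * m * z := by rw [hg1, hg2, hg3]; group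
        _ = z * (u * m) * z := by rw [hzz, mul_one, mul_one, hudef]; group
        _ = z * (u * m * z) := by group
        _ = z * (z * (u * m)) := by
          congr 1
          calc u * m * z = u * (m * z * m) * m := by
                rw [show u * (m * z * m) * m = u * m * z * (m * m) by group, hmm, mul_one]
            _ = u * (u * z * u) * m := by rw [hmz]
            _ = u * u * (z * (u * m)) := by group
            _ = z * (u * m) := by rw [huu, one_mul]
        _ = z * z * (u * m) := by group
        _ = u * m := by rw [hzz, one_mul]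
    rw [← e]
    exact mul_mem (mul_mem hg1K hg2K) hg3K
  have hmK : m ∈ K := by
    refine mem_of_conj_mem hD hu.memA
      (odd_of_not_creach hD hu.memA hm fun h => hu.apart (hxm.trans (creach_symm h))).2 hfK ?_
    have h1 := mul_mem (mul_mem hjK hf'K) (inv_mem hjK)
    rwa [show u * m * (u * a * u) * (u * m)⁻¹ = u * m * u * a * u * m⁻¹ * u⁻¹ by group,
      hu.inv_eq, inv_self hD hm, hum.eq, mul_assoc m u u, huu, mul_one,
      show m * a * u * m * u = m * a * (u * m * u) by group, hum.eq, mul_assoc m u u, huu,
      mul_one] at h1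
  have hzK : z ∈ K := mem_of_conj_mem hD hm
    (odd_of_not_creach hD hm hz fun h => hzx (creach_symm (hxm.trans h))).2 hmK hg3K
  have hconv : ∀ w : G, z * w * z ∈ K → w ∈ K := fun w hw => by
    have := mul_mem (mul_mem hzK hw) hzK
    rwa [show z * (z * w * z) * z = z * z * w * (z * z) by group, hzz, one_mul, mul_one] at this
  obtain ⟨b, c, hbc⟩ := hl
  obtain ⟨l, hal⟩ := exists_line hD hone hbc hu.memA
  exact hzu (hind K hK x hu.memX y hu.memY a hu.memA (hconv x hg1K) (hconv y hg2K) hfK hu.comm
    hu.ne hu.apart (hu.commute_conj Relation.ReflTransGen.refl) l hal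
    (hmem l (Or.inr (creach_of_commute hu.memA hal.2.1 (Line.commute hD hal)))) z hz hzK)

end CfsgLib.RootPoints
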