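import Cfsg.Agent.RootInvolutions.Disconnected.Final
import Cfsg.Agent.RootInvolutions.Disconnected.Embedded

/-!
Root involutions with a disconnected commuting graph: no product of two commuting members fixes a
second component, the graph gives a strongly embedded subgroup in the simple case.
-/

set_option autoImplicit false

universe u

namespace CfsgLib.RootPoints

open Cfsg CfsgLib.RootInv CfsgLib.RootInv99

variable {G : Type u} [Group G] [Finite G] {D : Set G}

/-- A product fixing a second component fixes every component, in groups below an order. -/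
def FixAllBelow (n : ℕ) : Prop :=
  ∀ (K : Type u) [Group K] [Finite K], Nat.card K < n → ∀ (E : Set K) (hE : IsRootInvolutionSet E),
    ¬ IsConnectedSet (CommAdj E) E → (∃ b c, Line E b c) →
      ∀ x y a, BadFix hE x y a → x * y ∈ pointKer hE

theorem pointKer_quot (hD : IsRootInvolutionSet D) (hdis : ¬ IsConnectedSet (CommAdj D) D)
    [(pointKer hD).Normal] :
    pointKer (quot_isRootInvolutionSet hD hdis (pointKer hD) le_rfl) = ⊥ := by
  rw [eq_bot_iff]
  intro y hy
  obtain ⟨g, rfl⟩ := QuotientGroup.mk'_surjective _ y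
  rw [Subgroup.mem_bot]
  refine (QuotientGroup.eq_one_iff g).mpr ((mem_pointKer hD).mpr fun a ha => ?_)
  exact (mem_pointStab_image hD hdis _ le_rfl ha).mp ((mem_pointKer _).mp hy _ ⟨a, ha, rfl⟩)

theorem subFixAll_of_below {hD : IsRootInvolutionSet D} (hbelow : FixAllBelow.{u} (Nat.card G)) :
    SubFixAll D := by
  intro K hK x hx y hy a ha hxK hyK haK hxy hne hapart hcomm l hal hlK z hz hzK
  have hE := localSet_isRootInvolutionSet hD K
  have hu2 : x * y * (x * y) = 1 := by
    rw [show x * y * (x * y) = x * (y * x) * y by group, ← hxy.eq,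
      show x * (x * y) * y = x * x * (y * y) by group, RootInv.mul_self hD hx,
      RootInv.mul_self hD hy, one_mul]
  have hinv : (x * y)⁻¹ = x * y := inv_eq_of_mul_eq_one_right hu2
  set x' : localGroup D K := ⟨x, mem_localGroup hx hxK⟩
  set y' : localGroup D K := ⟨y, mem_localGroup hy hyK⟩
  set a' : localGroup D K := ⟨a, mem_localGroup ha haK⟩
  set z' : localGroup D K := ⟨z, mem_localGroup hz hzK⟩
  have hbad : BadFix hE x' y' a' :=
    { memX := ⟨hx, hxK⟩
      memY := ⟨hy, hyK⟩
      comm := Subtype.ext hxy.eq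
      ne := fun e => hne (congrArg Subtype.val e)
      memA := ⟨ha, haK⟩
      apart := fun h => hapart (creach_of_local h)
      fixes := creach_of_commute ⟨ha, haK⟩ (hE.conj_mem a' ⟨ha, haK⟩ _) (Subtype.ext (by
        show a * (x * y * a * (x * y)⁻¹) = x * y * a * (x * y)⁻¹ * a
        rw [hinv]
        exact hcomm.eq)) }
  have h := hbelow _ (card_localGroup_lt hK) _ hE (local_disconnected hx hxK ha haK hapart)
    ⟨_, _, local_line hal haK hlK⟩ x' y' a' hbad
  have h1 : CReach D z (x * y * z * (x * y)⁻¹) :=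
    creach_of_local ((mem_pointKer hE).mp h z' ⟨hz, hzK⟩)
  rwa [hinv] at h1

theorem properSmooth_of_below (hc : RankOneBN.Criterion.{u}) {hD : IsRootInvolutionSet D}
    (hbelow : FixAllBelow.{u} (Nat.card G)) : ProperSmooth D := by
  intro K hK g hg q hq l e he x hx hgK hqK hlK heK hxK heg heq hne hgl
  by_contra hgq
  have hE := localSet_isRootInvolutionSet hD K
  have hdisE := local_disconnected he heK hx hxK hne
  have := pointKer_normal hE
  have hEQ := quot_isRootInvolutionSet hE hdisE (pointKer hE) le_rfl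
  have hdisQ := quot_disconnected hE hdisE (pointKer hE) le_rfl
  set π := QuotientGroup.mk' (pointKer hE)
  set g' : localGroup D K := ⟨g, mem_localGroup hg hgK⟩
  set q' : localGroup D K := ⟨q, mem_localGroup hq hqK⟩
  set l' : localGroup D K := ⟨l, mem_localGroup hgl.2.1 hlK⟩
  set e' : localGroup D K := ⟨e, mem_localGroup he heK⟩
  have hgl' : Line (localSet D K) g' l' := local_line hgl hgK hlK
  have hlQ : ∃ b c, Line (π '' localSet D K) b c :=
    ⟨π g', π l', ⟨_, hgl'.1, rfl⟩, ⟨_, hgl'.2.1, rfl⟩, ⟨_, hgl'.2.2, map_mul π g' l'⟩⟩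
  have hfaithQ := pointKer_quot hE hdisE
  have hnoQ : ∀ a b c, ¬ BadFix hEQ a b c := by
    intro a b c hu
    have h := hbelow _ (lt_of_le_of_lt (Nat.card_le_card_of_surjective π
      (QuotientGroup.mk'_surjective _)) (card_localGroup_lt hK)) _ hEQ hdisQ hlQ a b c hu
    rw [hfaithQ] at h
    exact hu.ne_one (Subgroup.mem_bot.mp h)
  have hcQ : Commute (π g') (π q') := commute_of_common hdisQ hlQ hnoQ hc hfaithQ
    (e := π e') ⟨e', ⟨he, heK⟩, rfl⟩ ⟨g', ⟨hg, hgK⟩, rfl⟩ ⟨q', ⟨hq, hqK⟩, rfl⟩
    ((show Commute e' g' from Subtype.ext heg.eq).map π)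
    ((show Commute e' q' from Subtype.ext heq.eq).map π)
  have hgE : g' ∈ localSet D K := ⟨hg, hgK⟩
  have hqE : q' ∈ localSet D K := ⟨hq, hqK⟩
  have hgq' : ¬ Commute g' q' := fun h => hgq (congrArg Subtype.val h.eq : _)
  have hsq : π (g' * q') * π (g' * q') = 1 := by
    rw [map_mul, show π g' * π q' * (π g' * π q') = π g' * (π q' * π g') * π q' by group, ← hcQ.eq,
      show π g' * (π g' * π q') * π q' = π g' * π g' * (π q' * π q') by group,
      RootInv.mul_self hEQ ⟨g', hgE, rfl⟩, RootInv.mul_self hEQ ⟨q', hqE, rfl⟩, one_mul]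
  have hgker : g' * q' ∈ pointKer hE ∧ Odd (orderOf (g' * q')) := by
    rcases odd_or_pow_four hE hgE hqE with ⟨-, ho⟩ | h4
    · exact ⟨(QuotientGroup.eq_one_iff _).mp
        (eq_one_of_sq_of_odd hsq (ho.of_dvd_nat (orderOf_map_dvd π _))), ho⟩
    · refine absurd ((QuotientGroup.eq_one_iff _).mp ?_)
        (notMem_pointKer hE hdisE (sq_mem hE hgE hqE hgq' h4))
      show π ((g' * q') ^ 2) = 1
      rw [pow_two, map_mul]
      exact hsq
  have hgπ : π q' = π g' := by
    have h1 : π g' * π q' = 1 := by rw [← map_mul]; exact (QuotientGroup.eq_one_iff _).mpr hgker.1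
    rw [eq_inv_of_mul_eq_one_left h1, inv_self hEQ ⟨q', hqE, rfl⟩]
  have hql : Commute (π q') (π l') := by
    rw [hgπ]; exact (Line.commute hE hgl').map π
  by_cases hcl : Commute q' l'
  · refine hgq' ?_
    rw [(Line.symm hE hgl').eq_of_commute_of_odd hE hqE hcl (by rw [← odd_comm hE hgE hqE]; exact hgker.2)]
  have hsq' : π (q' * l') * π (q' * l') = 1 := by
    rw [map_mul, show π q' * π l' * (π q' * π l') = π q' * (π l' * π q') * π l' by group, ← hql.eq,
      show π q' * (π q' * π l') * π l' = π q' * π q' * (π l' * π l') by group,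
      RootInv.mul_self hEQ ⟨q', hqE, rfl⟩, RootInv.mul_self hEQ ⟨l', hgl'.2.1, rfl⟩, one_mul]
  rcases odd_or_pow_four hE hqE hgl'.2.1 with ⟨-, ho⟩ | h4
  · have hk : q' * l' ∈ pointKer hE := (QuotientGroup.eq_one_iff _).mp
      (eq_one_of_sq_of_odd hsq' (ho.of_dvd_nat (orderOf_map_dvd π _)))
    refine notMem_pointKer hE hdisE hgl'.2.2 ?_
    have h1 := mul_mem hgker.1 hk
    rwa [show g' * q' * (q' * l') = g' * (q' * q') * l' by group, RootInv.mul_self hE hqE,
      mul_one] at h1
  · refine notMem_pointKer hE hdisE (sq_mem hE hqE hgl'.2.1 hcl h4) ((QuotientGroup.eq_one_iff _).mp ?_)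
    show π ((q' * l') ^ 2) = 1
    rw [pow_two, map_mul]
    exact hsq'

/-- A product of two commuting members fixing a second component fixes every component. -/
theorem fixAllBelow (hc : RankOneBN.Criterion.{u}) : ∀ n, FixAllBelow.{u} n := by
  intro n
  induction n with
  | zero => exact fun _ _ _ h => absurd h (Nat.not_lt_zero _)
  | succ n ih =>
    intro K _ _ hK E hE hdis hl x y a hu
    have hbelow : FixAllBelow.{u} (Nat.card K) := fun K' _ _ h' =>
      ih K' (lt_of_lt_of_le h' (Nat.lt_succ_iff.mp hK))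
    have hone := oneClass_of_disconnected hE hdis
    by_cases hfaith : pointKer hE = ⊥
    · exact absurd hu (not_badFix hone hl hfaith (properSmooth_of_below hc (hD := hE) hbelow)
        (subFixAll_of_below (hD := hE) hbelow))
    have := pointKer_normal hE
    set π := QuotientGroup.mk' (pointKer hE) with hπ
    by_cases hxy : π x = π y
    · refine (QuotientGroup.eq_one_iff _).mp ?_
      show π (x * y) = 1
      rw [map_mul, hxy, ← map_mul, RootInv.mul_self hE hu.memY, map_one]
    have hEQ := quot_isRootInvolutionSet hE hdis (pointKer hE) le_rfl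
    have hcard : Nat.card (K ⧸ pointKer hE) < Nat.card K := by
      rw [Subgroup.card_eq_card_quotient_mul_card_subgroup (pointKer hE)]
      exact lt_mul_of_one_lt_right Nat.card_pos
        (Nat.one_lt_iff_ne_zero_and_ne_one.mpr ⟨Nat.card_pos.ne',
          fun e => hfaith (Subgroup.card_eq_one.mp e)⟩)
    obtain ⟨b, c, hbc⟩ := hl
    have hbad : BadFix hEQ (π x) (π y) (π a) :=
      { memX := ⟨x, hu.memX, rfl⟩
        memY := ⟨y, hu.memY, rfl⟩
        comm := hu.comm.map π
        ne := hxy
        memA := ⟨a, hu.memA, rfl⟩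
        apart := fun h => hu.apart ((creach_image_iff hE _ le_rfl hu.memX hu.memA).mp h)
        fixes := by
          rw [← map_mul]
          exact (mem_pointStab_image hE hdis _ le_rfl hu.memA).mpr hu.fixes }
    have h := hbelow _ hcard _ hEQ (quot_disconnected hE hdis _ le_rfl)
      ⟨π b, π c, ⟨b, hbc.1, rfl⟩, ⟨c, hbc.2.1, rfl⟩, ⟨b * c, hbc.2.2, map_mul π b c⟩⟩ _ _ _ hbad
    rw [← map_mul, pointKer_quot hE hdis, Subgroup.mem_bot] at h
    exact (QuotientGroup.eq_one_iff _).mp h

/-- No product of two commuting members fixes two components, modulo the kernel. -/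
theorem not_badFix_of_faithful (hc : RankOneBN.Criterion.{u}) {hD : IsRootInvolutionSet D}
    (hdis : ¬ IsConnectedSet (CommAdj D) D) (hl : ∃ b c, Line D b c) (hfaith : pointKer hD = ⊥)
    (x y a : G) : ¬ BadFix hD x y a := fun hu => by
  have h := fixAllBelow hc (Nat.card G + 1) G (Nat.lt_succ_self _) D hD hdis hl x y a hu
  rw [hfaith] at h
  exact hu.ne_one (Subgroup.mem_bot.mp h)

/-- Members with a common neighbour commute modulo the kernel. -/
theorem commute_image_of_common (hc : RankOneBN.Criterion.{u}) (hD : IsRootInvolutionSet D)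
    (hdis : ¬ IsConnectedSet (CommAdj D) D) (hl : ∃ b c, Line D b c) [(pointKer hD).Normal]
    {e g q : G} (he : e ∈ D) (hg : g ∈ D) (hq : q ∈ D) (heg : Commute e g) (heq : Commute e q) :
    Commute (QuotientGroup.mk' (pointKer hD) g) (QuotientGroup.mk' (pointKer hD) q) := by
  obtain ⟨b, c, hbc⟩ := hl
  have hEQ := quot_isRootInvolutionSet hD hdis (pointKer hD) le_rfl
  have hdisQ := quot_disconnected hD hdis (pointKer hD) le_rfl
  have hlQ : ∃ b c, Line (QuotientGroup.mk' (pointKer hD) '' D) b c :=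
    ⟨_, _, ⟨b, hbc.1, rfl⟩, ⟨c, hbc.2.1, rfl⟩, ⟨b * c, hbc.2.2, map_mul _ b c⟩⟩
  exact commute_of_common hdisQ hlQ
    (not_badFix_of_faithful hc hdisQ hlQ (pointKer_quot hD hdis) (hD := hEQ)) hc
    (pointKer_quot hD hdis) ⟨e, he, rfl⟩ ⟨g, hg, rfl⟩ ⟨q, hq, rfl⟩ (heg.map _) (heq.map _)

/-- In a simple group the disconnected case has a strongly embedded subgroup. -/
theorem seHyp (hc : RankOneBN.Criterion.{u}) : SEHyp.{u} := by
  intro G _ _ _ D hD _ hl hdis
  have hfaith : pointKer hD = ⊥ := by
    refine (pointKer_normal hD).eq_bot_or_eq_top.resolve_right fun h => ?_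
    obtain ⟨b, c, hbc⟩ := hl
    exact notMem_pointKer hD hdis hbc.1 (h ▸ Subgroup.mem_top b)
  exact exists_stronglyEmbedded hdis hl (not_badFix_of_faithful hc hdis hl hfaith) hc hfaith

end CfsgLib.RootPoints
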