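import Cfsg.Agent.RootInvolutions.Classify99
import Cfsg.Agent.Criterion.Midpoint

/-!
Root involutions with a disconnected commuting graph: the components as points. A member fixes only
its own component and the centraliser of a product of two commuting members fixes their component.
-/

set_option autoImplicit false

namespace CfsgLib.RootPoints

open Cfsg CfsgLib.RootInv CfsgLib.RootInv99

variable {G : Type*} [Group G] {D : Set G}

/-- A finite set with a fixed-point-free involution has even size. -/
theorem even_ncard_of_involution {α : Type*} [Finite α] {s : Set α} (σ : α → α)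
    (h1 : ∀ a ∈ s, σ a ∈ s) (h2 : ∀ a ∈ s, σ (σ a) = a) (h3 : ∀ a ∈ s, σ a ≠ a) :
    Even s.ncard := by
  rw [Set.ncard_eq_toFinset_card s, ← ZMod.natCast_eq_zero_iff_even, Finset.card_eq_sum_ones,
    Nat.cast_sum, Nat.cast_one]
  refine Finset.sum_involution (fun a _ => σ a) (fun _ _ => by decide)
    (fun a ha _ => h3 a (by simpa using ha)) (fun a ha => by simpa using h1 a (by simpa using ha))
    (fun a ha => h2 a (by simpa using ha))

theorem creach_symm {a b : G} (h : CReach D a b) : CReach D b a := by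
  induction h with
  | refl => exact Relation.ReflTransGen.refl
  | tail _ hbc ih => exact ih.head ⟨hbc.2.1, hbc.1, hbc.2.2.1.symm, hbc.2.2.2.symm⟩

theorem mem_of_creach {a b : G} (h : CReach D a b) (ha : a ∈ D) : b ∈ D := by
  induction h with
  | refl => exact ha
  | tail _ hbc _ => exact hbc.2.1

theorem creach_conj (hD : IsRootInvolutionSet D) {a b : G} (h : CReach D a b) (g : G) :
    CReach D (g * a * g⁻¹) (g * b * g⁻¹) := by
  induction h with
  | refl => exact Relation.ReflTransGen.refl
  | tail _ hbc ih =>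
    obtain ⟨hb, hc, hne, hcom⟩ := hbc
    refine ih.tail ⟨hD.conj_mem _ hb g, hD.conj_mem _ hc g, fun e => hne ?_, ?_⟩
    · exact mul_left_cancel (mul_right_cancel e)
    · exact ((Commute.conj_iff g).mpr hcom).eq

/-- The stabiliser of the component of `a`. -/
def pointStab (hD : IsRootInvolutionSet D) (a : G) : Subgroup G where
  carrier := {g | CReach D a (g * a * g⁻¹)}
  one_mem' := by
    show CReach D a (1 * a * 1⁻¹)
    rw [inv_one, mul_one, one_mul]
  mul_mem' {g h} hg hh := by
    have h2 : CReach D (g * a * g⁻¹) (g * h * a * (g * h)⁻¹) := by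
      rw [show g * h * a * (g * h)⁻¹ = g * (h * a * h⁻¹) * g⁻¹ by group]
      exact creach_conj hD hh g
    exact Relation.ReflTransGen.trans hg h2
  inv_mem' {g} hg := by
    have h2 := creach_conj hD hg g⁻¹
    rw [show g⁻¹ * (g * a * g⁻¹) * g⁻¹⁻¹ = a by group] at h2
    exact creach_symm h2

variable (hD : IsRootInvolutionSet D) {a b c g h m p q x y : G}

include hD

theorem mem_pointStab : g ∈ pointStab hD a ↔ CReach D a (g * a * g⁻¹) := Iff.rfl

theorem mem_pointStab_invol (hg : g * g = 1) :
    g ∈ pointStab hD a ↔ CReach D a (g * a * g) := by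
  rw [mem_pointStab hD, inv_eq_of_mul_eq_one_right hg]

theorem mem_pointStab_of_commute (h : Commute g a) : g ∈ pointStab hD a := by
  show CReach D a (g * a * g⁻¹)
  rw [h.eq, mul_inv_cancel_right]

theorem self_mem_pointStab : a ∈ pointStab hD a := mem_pointStab_of_commute hD (Commute.refl a)

theorem pointStab_congr (h : CReach D a b) : pointStab hD a = pointStab hD b :=
  Subgroup.ext fun g =>
    ⟨fun hg => (creach_symm h).trans (hg.trans (creach_conj hD h g)),
      fun hg => (h.trans hg).trans (creach_conj hD (creach_symm h) g)⟩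

theorem pointStab_conj :
    h * g * h⁻¹ ∈ pointStab hD (h * a * h⁻¹) ↔ g ∈ pointStab hD a := by
  constructor
  · intro hg
    have h1 := creach_conj hD hg h⁻¹
    rw [show h⁻¹ * (h * a * h⁻¹) * h⁻¹⁻¹ = a by group,
      show h⁻¹ * (h * g * h⁻¹ * (h * a * h⁻¹) * (h * g * h⁻¹)⁻¹) * h⁻¹⁻¹ = g * a * g⁻¹ by group] at h1
    exact h1
  · intro hg
    show CReach D (h * a * h⁻¹) _
    rw [show h * g * h⁻¹ * (h * a * h⁻¹) * (h * g * h⁻¹)⁻¹ = h * (g * a * g⁻¹) * h⁻¹ by group]
    exact creach_conj hD hg h

theorem odd_of_not_creach (ha : a ∈ D) (hb : b ∈ D) (h : ¬ CReach D a b) :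
    a ≠ b ∧ Odd (orderOf (a * b)) :=
  (odd_or_pow_four hD ha hb).resolve_right fun h4 => h (creach_of_pow_four hD ha hb h4)

/-- A member fixes only its own component. -/
theorem creach_of_mem_pointStab (ha : a ∈ D) (hb : b ∈ D) (hfix : b ∈ pointStab hD a) :
    CReach D a b := by
  by_contra h
  obtain ⟨x, hx, hxb⟩ := StronglyEmbedded.exists_zpowers_conj_of_odd (hD.orderOf_eq a ha)
    (hD.orderOf_eq b hb) (odd_of_not_creach hD ha hb h).2
  have hxs : x ∈ pointStab hD a :=
    Subgroup.zpowers_le.mpr (mul_mem (self_mem_pointStab hD) hfix) hx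
  exact h (hxb ▸ (mem_pointStab hD).mp hxs)

/-- The centraliser of a product of two commuting members fixes their component. -/
theorem mem_pointStab_of_commute_mul (hx : x ∈ D) (hy : y ∈ D) (hxy : Commute x y) (hne : x ≠ y)
    (hg : Commute g (x * y)) : g ∈ pointStab hD x := by
  by_contra h
  have hx' := hD.conj_mem x hx g
  have hy' := hD.conj_mem y hy g
  set x' := g * x * g⁻¹ with hx'def
  have e : x * y = x' * (g * y * g⁻¹) := by
    rw [hx'def, show g * x * g⁻¹ * (g * y * g⁻¹) = g * (x * y) * g⁻¹ by group, hg.eq,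
      mul_inv_cancel_right]
  have hwx : Commute (x * y) x := ((Commute.refl x).mul_left hxy.symm)
  have hwx' : Commute (x * y) x' := by
    rw [e]
    exact (Commute.refl x').mul_left ((Commute.conj_iff g).mpr hxy).symm
  have hwp : Commute (x * y) (x * x') := hwx.mul_right hwx'
  have hodd := (odd_of_not_creach hD hx hx' h).2
  have hodd' := (odd_of_not_creach hD hy hx' fun h' =>
    h ((creach_of_commute hx hy hxy).trans h')).2
  have hyp : x * y * (x * x') = y * x' := by
    rw [hxy.eq, show y * x * (x * x') = y * (x * x) * x' by group, mul_self hD hx, mul_one]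
  obtain ⟨i, hi⟩ := hodd.mul hodd'
  set w := x * y with hw
  have h1 : (w * (x * x')) ^ (orderOf (x * x') * orderOf (y * x')) = 1 := by
    rw [hyp, pow_mul']; rw [pow_orderOf_eq_one, one_pow]
  rw [hwp.mul_pow, pow_mul (x * x'), pow_orderOf_eq_one, one_pow, mul_one, hi, pow_succ, pow_mul,
    pow_two w] at h1
  have hw2 : w * w = 1 := by
    rw [hw, show x * y * (x * y) = x * (y * x) * y by group, ← hxy.eq,
      show x * (x * y) * y = x * x * (y * y) by group, mul_self hD hx, mul_self hD hy, one_mul]
  rw [hw2, one_pow, one_mul, hw, mul_eq_one_iff_eq_inv, inv_self hD hy] at h1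
  exact hne h1

/-- A member commuting with a product of two commuting members lies in their component. -/
theorem creach_of_commute_mul (hx : x ∈ D) (hy : y ∈ D) (hxy : Commute x y) (hne : x ≠ y)
    (ha : a ∈ D) (hc : Commute a (x * y)) : CReach D x a :=
  creach_of_mem_pointStab hD hx ha (mem_pointStab_of_commute_mul hD hx hy hxy hne hc)

variable [Finite G]

/-- The midpoint of two members with product of odd order. -/
theorem exists_mid (hp : p ∈ D) (hq : q ∈ D) (ho : Odd (orderOf (p * q))) :
    ∃ m ∈ D, m * p * m = q ∧ (∀ t : G, orderOf t = 2 → t * p * t = q → Commute t m) ∧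
      ∀ K : Subgroup G, p ∈ K → q ∈ K → m ∈ K := by
  obtain ⟨g, hg, hgq, hcom⟩ :=
    Criterion.exists_midpoint (hD.orderOf_eq p hp) (hD.orderOf_eq q hq) ho
  have hm := hD.conj_mem p hp g
  refine ⟨g * p * g⁻¹, hm, ?_, fun t ht htq => hcom t ht ?_, fun K hpK hqK => ?_⟩
  · rwa [inv_self hD hm] at hgq
  · rwa [StronglyEmbedded.inv_eq_self ht]
  · have hgK : g ∈ K := Subgroup.zpowers_le.mpr (mul_mem hpK hqK) hg
    exact mul_mem (mul_mem hgK hpK) (inv_mem hgK)

omit hD in
theorem eq_of_conj_eq {f : G} {t t' : G}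
    (ho : Odd (orderOf (f * t))) (ho' : Odd (orderOf (f * t')))
    (he : t * f * t = t' * f * t') : t = t' := by
  have hsq : f * t * (f * t) = f * t' * (f * t') := by
    rw [show f * t * (f * t) = f * (t * f * t) by group, he]; group
  exact mul_left_cancel (eq_of_sq_eq_of_odd ho ho' hsq)

omit [Finite G] in
theorem mem_of_conj_mem {f t : G} (hf : f ∈ D) (ho : Odd (orderOf (f * t))) {K : Subgroup G}
    (hfK : f ∈ K) (hK : t * f * t ∈ K) : t ∈ K := by
  obtain ⟨i, hi⟩ := ho
  have h1 : f * t ∈ K := by
    have e : f * t = (f * (t * f * t)) ^ (i + 1) := by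
      rw [show f * (t * f * t) = (f * t) ^ 2 by rw [pow_two]; group, ← pow_mul,
        show 2 * (i + 1) = orderOf (f * t) + 1 by omega, pow_succ, pow_orderOf_eq_one, one_mul]
    rw [e]
    exact pow_mem (mul_mem hfK hK) _
  simpa [← mul_assoc, mul_self hD hf] using mul_mem hfK h1

omit [Finite G]

omit hD in
theorem exists_apart (hdis : ¬ IsConnectedSet (CommAdj D) D) :
    ∃ b ∈ D, ¬ CReach D a b := by
  by_contra hno
  push Not at hno
  exact hdis fun u hu v hv => (creach_symm (hno u hu)).trans (hno v hv)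

theorem oneClass_of_disconnected [Finite G] (hdis : ¬ IsConnectedSet (CommAdj D) D) : OneClass D :=
  oneClass_of_connected hD (oddConnected_of_disconnected hD hdis)

/-- The elements fixing every component. -/
def pointKer : Subgroup G := ⨅ a ∈ D, pointStab hD a

theorem mem_pointKer : g ∈ pointKer hD ↔ ∀ a ∈ D, g ∈ pointStab hD a := by
  simp [pointKer, Subgroup.mem_iInf]

theorem pointKer_normal : (pointKer hD).Normal := ⟨fun n hn t => by
  rw [mem_pointKer hD] at hn ⊢
  intro a ha
  have h1 := hn _ (hD.conj_mem a ha t⁻¹)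
  have h2 := (pointStab_conj hD (h := t)).mpr h1
  rwa [show t * (t⁻¹ * a * t⁻¹⁻¹) * t⁻¹ = a by group] at h2⟩

theorem notMem_pointKer (hdis : ¬ IsConnectedSet (CommAdj D) D) (ha : a ∈ D) :
    a ∉ pointKer hD := fun h => by
  obtain ⟨b, hb, hab⟩ := exists_apart (a := a) hdis
  exact hab (creach_symm (creach_of_mem_pointStab hD hb ha ((mem_pointKer hD).mp h b hb)))

end CfsgLib.RootPoints
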