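import Cfsg.Agent.RootInvolutions.Disconnected.Points
import Cfsg.Agent.RootInvolutions.Generation52

/-!
The members of a subgroup and the quotient by a normal subgroup fixing every component.
-/

set_option autoImplicit false

namespace CfsgLib.RootPoints

open Cfsg CfsgLib.RootInv CfsgLib.RootInv99

variable {G : Type*} [Group G] {D : Set G} (hD : IsRootInvolutionSet D)

/-- The subgroup generated by the members inside a subgroup. -/
def localGroup (D : Set G) (K : Subgroup G) : Subgroup G :=
  Subgroup.closure {s | s ∈ D ∧ s ∈ K}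

/-- The members inside it. -/
def localSet (D : Set G) (K : Subgroup G) : Set (localGroup D K) :=
  {h | (h : G) ∈ D ∧ (h : G) ∈ K}

theorem localGroup_le (K : Subgroup G) : localGroup D K ≤ K :=
  (Subgroup.closure_le K).mpr fun _ h => h.2

theorem mem_localGroup {K : Subgroup G} {d : G} (hd : d ∈ D) (hK : d ∈ K) :
    d ∈ localGroup D K :=
  Subgroup.subset_closure ⟨hd, hK⟩

include hD

theorem localSet_isRootInvolutionSet (K : Subgroup G) :
    IsRootInvolutionSet (localSet D K) :=
  CfsgLib.RootInv.rootSet_restrict hD (S := {s | s ∈ D ∧ s ∈ K}) (fun _ h => h.1) rfl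
    (fun g hg _ hs => ⟨hD.conj_mem _ hs.1 g,
      mul_mem (mul_mem (localGroup_le K hg) hs.2) (inv_mem (localGroup_le K hg))⟩)
    (fun _ hp _ hq hc h4 => ⟨sq_mem hD hp.1 hq.1 hc h4, pow_mem (mul_mem hp.2 hq.2) 2⟩)

omit hD in
theorem creach_of_local {K : Subgroup G} {u v : localGroup D K}
    (h : CReach (localSet D K) u v) : CReach D (u : G) v := by
  induction h with
  | refl => exact Relation.ReflTransGen.refl
  | tail _ hbc ih =>
    exact ih.trans (creach_of_commute hbc.1.1 hbc.2.1.1
      (congrArg Subtype.val hbc.2.2.2 : _))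

omit hD in
theorem local_disconnected {K : Subgroup G} {u v : G} (hu : u ∈ D) (huK : u ∈ K) (hv : v ∈ D)
    (hvK : v ∈ K) (h : ¬ CReach D u v) :
    ¬ IsConnectedSet (CommAdj (localSet D K)) (localSet D K) := fun hc =>
  h (creach_of_local (hc ⟨u, mem_localGroup hu huK⟩ ⟨hu, huK⟩ ⟨v, mem_localGroup hv hvK⟩ ⟨hv, hvK⟩))

omit hD in
theorem local_line {K : Subgroup G} {u v : G} (h : Line D u v) (hu : u ∈ K) (hv : v ∈ K) :
    Line (localSet D K) ⟨u, mem_localGroup h.1 hu⟩ ⟨v, mem_localGroup h.2.1 hv⟩ :=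
  ⟨⟨h.1, hu⟩, ⟨h.2.1, hv⟩, ⟨h.2.2, mul_mem hu hv⟩⟩

omit hD in
theorem card_localGroup_lt [Finite G] {K : Subgroup G} (hK : K ≠ ⊤) :
    Nat.card (localGroup D K) < Nat.card G := by
  refine lt_of_le_of_ne (Subgroup.card_le_card_group _) fun e => hK ?_
  exact top_le_iff.mp ((Subgroup.card_eq_iff_eq_top _).mp e ▸ localGroup_le K)

section Quot

variable [Finite G] (hdis : ¬ IsConnectedSet (CommAdj D) D) (N : Subgroup G) [N.Normal]
  (hN : N ≤ pointKer hD)

include hdis hN

theorem quot_isRootInvolutionSet : IsRootInvolutionSet (QuotientGroup.mk' N '' D) := by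
  refine ⟨?_, ?_, ?_, ?_⟩
  · rintro _ ⟨d, hd, rfl⟩
    refine orderOf_eq_prime ?_ fun h =>
      notMem_pointKer hD hdis hd (hN ((QuotientGroup.eq_one_iff d).mp h))
    rw [← map_pow, pow_two, mul_self hD hd, map_one]
  · rw [← MonoidHom.map_closure, hD.generates,
      Subgroup.map_top_of_surjective _ (QuotientGroup.mk'_surjective _)]
  · rintro _ ⟨d, hd, rfl⟩ y
    obtain ⟨g, rfl⟩ := QuotientGroup.mk'_surjective _ y
    exact ⟨g * d * g⁻¹, hD.conj_mem d hd g, by rw [map_mul, map_mul, map_inv]⟩
  · rintro _ ⟨x, hx, rfl⟩ _ ⟨y, hy, rfl⟩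
    set π := QuotientGroup.mk' N
    rcases hD.pair x hx y hy with h | h | ⟨h4, hz⟩
    · exact Or.inl (by rw [← map_mul, h, map_mul])
    · exact Or.inr (Or.inl (by rw [← map_mul]; exact h.of_dvd_nat (orderOf_map_dvd π _)))
    · have h2 : π (x * y) ^ 2 ≠ 1 := fun h2 =>
        notMem_pointKer hD hdis hz (hN ((QuotientGroup.eq_one_iff _).mp (by rw [← h2, ← map_pow]; rfl)))
      refine Or.inr (Or.inr ⟨?_, ⟨_, hz, by rw [map_pow, map_mul]⟩⟩)
      rw [← map_mul]
      exact orderOf_eq_prime_pow (p := 2) (n := 1) (by simpa using h2)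
        (by rw [← map_pow, show 2 ^ (1 + 1) = orderOf (x * y) by rw [h4]; norm_num,
          pow_orderOf_eq_one, map_one])

omit hdis in
/-- Members with commuting images are joined. -/
theorem creach_of_commute_image {u v : G} (hu : u ∈ D) (hv : v ∈ D)
    (hc : Commute (QuotientGroup.mk' N u) (QuotientGroup.mk' N v)) : CReach D u v := by
  set π := QuotientGroup.mk' N
  rcases odd_or_pow_four hD hu hv with ⟨-, ho⟩ | h4
  · have h2 : π (u * v) * π (u * v) = 1 := by
      rw [map_mul, mul_assoc, ← mul_assoc (π v), ← hc.eq, mul_assoc (π u), ← map_mul _ v v,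
        mul_self hD hv, map_one, mul_one, ← map_mul, mul_self hD hu, map_one]
    have h1 := hN ((QuotientGroup.eq_one_iff _).mp
      (eq_one_of_sq_of_odd h2 (ho.of_dvd_nat (orderOf_map_dvd π _))))
    refine creach_of_mem_pointStab hD hu hv ?_
    have h3 := mul_mem (inv_mem (self_mem_pointStab hD (a := u))) ((mem_pointKer hD).mp h1 u hu)
    rwa [inv_mul_cancel_left] at h3
  · exact creach_of_pow_four hD hu hv h4

omit hdis in
theorem creach_image_iff {u v : G} (hu : u ∈ D) (hv : v ∈ D) :
    CReach (QuotientGroup.mk' N '' D) (QuotientGroup.mk' N u) (QuotientGroup.mk' N v) ↔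
      CReach D u v := by
  constructor
  · intro h
    generalize he : QuotientGroup.mk' N v = z at h
    induction h generalizing v with
    | refl => exact creach_of_commute_image hD N hN hu hv (by rw [he])
    | tail _ hadj ih =>
      obtain ⟨w, hw, hwe⟩ := hadj.1
      exact (ih hw hwe).trans
        (creach_of_commute_image hD N hN hw hv (by rw [hwe, he]; exact hadj.2.2.2))
  · intro h
    induction h with
    | refl => exact Relation.ReflTransGen.refl
    | tail hab hbc ih =>
      exact (ih hbc.1).trans (creach_of_commute ⟨_, hbc.1, rfl⟩ ⟨_, hbc.2.1, rfl⟩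
        ((show Commute _ _ from hbc.2.2.2).map _))

theorem quot_disconnected :
    ¬ IsConnectedSet (CommAdj (QuotientGroup.mk' N '' D)) (QuotientGroup.mk' N '' D) :=
  fun hc => hdis fun x hx y hy =>
    (creach_image_iff hD N hN hx hy).mp (hc _ ⟨x, hx, rfl⟩ _ ⟨y, hy, rfl⟩)

theorem mem_pointStab_image {g a : G} (ha : a ∈ D) :
    QuotientGroup.mk' N g ∈ pointStab (quot_isRootInvolutionSet hD hdis N hN)
      (QuotientGroup.mk' N a) ↔ g ∈ pointStab hD a := by
  rw [mem_pointStab, mem_pointStab, ← map_inv, ← map_mul, ← map_mul]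
  exact creach_image_iff hD N hN ha (hD.conj_mem a ha g)

end Quot

end CfsgLib.RootPoints
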